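import Cfsg.Agent.H18.TEg.C.D0

/-! Generated by tools/h0/tr.py. -/

set_option maxRecDepth 100000
set_option maxHeartbeats 0

namespace H18.TE.M
open H16 H0.TR
open scoped commutatorElement

theorem t4n2_1_0 : allZ (t4n2.ent H18.TE.M.P t4h_P (rl [nat_lit 49, nat_lit 50, nat_lit 11] H18.TE.M.P) (rl [nat_lit 49, nat_lit 50, nat_lit 11] H18.TE.M.P) c4e_P (nat_lit 53) (nat_lit 3) H18.TE.M.B t4l0 [t4l1, t4l2, t4l3, t4l4, t4l5, t4l6, t4l7, t4l8, t4l9, t4l10, t4l11, t4l12, t4l13, t4l14, t4l15, t4l16, t4l17, t4l18, t4l19] (memO c4c0)) (nat_lit 0) (nat_lit 1782) = true := by decide +kernel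
theorem c4_f0 : (Nat.ble c4c0.K 3 && Nat.ble (topK [c4c18, c4c19]) c4c0.K && Nat.beq (c4c0.Pt 0) (t4l0.Pt 0) && Nat.beq (ltAll 1782 []) 0 && kChk c4e_P (rl [nat_lit 49, nat_lit 50, nat_lit 11] H18.TE.M.P) c4c0.K 3 H18.TE.M.B []) = true := by decide +kernel
theorem c4_c : chainCard [c4c0, c4c18, c4c19] = 8 ∧ topK [c4c0, c4c18, c4c19] = 3 := by decide +kernel
theorem g4_k : allZ (fun a => Nat.add (ltAll 3 (nth [] [[nat_lit 0, nat_lit 1],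
  [nat_lit 2],
  [nat_lit 0]] a)) (sumL (fun β => Nat.xor (c4e_P a β) (apW (rl [nat_lit 10, nat_lit 28, nat_lit 29] H18.TE.M.P) (nth [] [[nat_lit 0, nat_lit 1],
  [nat_lit 2],
  [nat_lit 0]] a) β)) H18.TE.M.B)) 0 3 = true := by decide +kernel
theorem tsh_lt : allL (ltAll 53) tsh_W = true := by decide +kernel
theorem tsl0_e_0 : allZ (dent tsl0 tsh_P (nat_lit 1782)) (nat_lit 0) (nat_lit 1781) = true := by decide +kernel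
theorem tsl0_h : 0 < tsl0.n ∧ 0 < tsl0.K ∧ tsl0.Pt 0 < 1782 ∧ tsl0.Q (tsl0.Pt 0) = 0 := by decide +kernel
theorem tsl1_e_0 : allZ (dent tsl1 tsh_P (nat_lit 1782)) (nat_lit 0) (nat_lit 83) = true := by decide +kernel
theorem tsl1_h : 0 < tsl1.n ∧ 0 < tsl1.K ∧ tsl1.Pt 0 < 1782 ∧ tsl1.Q (tsl1.Pt 0) = 0 := by decide +kernel
theorem tsl2_e_0 : allZ (dent tsl2 tsh_P (nat_lit 1782)) (nat_lit 0) (nat_lit 79) = true := by decide +kernel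
theorem tsl2_h : 0 < tsl2.n ∧ 0 < tsl2.K ∧ tsl2.Pt 0 < 1782 ∧ tsl2.Q (tsl2.Pt 0) = 0 := by decide +kernel
theorem tsl3_e_0 : allZ (dent tsl3 tsh_P (nat_lit 1782)) (nat_lit 0) (nat_lit 7) = true := by decide +kernel
theorem tsl3_h : 0 < tsl3.n ∧ 0 < tsl3.K ∧ tsl3.Pt 0 < 1782 ∧ tsl3.Q (tsl3.Pt 0) = 0 := by decide +kernel
theorem tsl4_e_0 : allZ (dent tsl4 tsh_P (nat_lit 1782)) (nat_lit 0) (nat_lit 5) = true := by decide +kernel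
theorem tsl4_h : 0 < tsl4.n ∧ 0 < tsl4.K ∧ tsl4.Pt 0 < 1782 ∧ tsl4.Q (tsl4.Pt 0) = 0 := by decide +kernel
theorem tsl5_e_0 : allZ (dent tsl5 tsh_P (nat_lit 1782)) (nat_lit 0) (nat_lit 1) = true := by decide +kernel
theorem tsl5_h : 0 < tsl5.n ∧ 0 < tsl5.K ∧ tsl5.Pt 0 < 1782 ∧ tsl5.Q (tsl5.Pt 0) = 0 := by decide +kernel
theorem tsl6_e_0 : allZ (dent tsl6 tsh_P (nat_lit 1782)) (nat_lit 0) (nat_lit 63) = true := by decide +kernel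
theorem tsl6_h : 0 < tsl6.n ∧ 0 < tsl6.K ∧ tsl6.Pt 0 < 1782 ∧ tsl6.Q (tsl6.Pt 0) = 0 := by decide +kernel
theorem tsl7_e_0 : allZ (dent tsl7 tsh_P (nat_lit 1782)) (nat_lit 0) (nat_lit 3) = true := by decide +kernel
theorem tsl7_h : 0 < tsl7.n ∧ 0 < tsl7.K ∧ tsl7.Pt 0 < 1782 ∧ tsl7.Q (tsl7.Pt 0) = 0 := by decide +kernel
theorem tsl8_e_0 : allZ (dent tsl8 tsh_P (nat_lit 1782)) (nat_lit 0) (nat_lit 3) = true := by decide +kernel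
theorem tsl8_h : 0 < tsl8.n ∧ 0 < tsl8.K ∧ tsl8.Pt 0 < 1782 ∧ tsl8.Q (tsl8.Pt 0) = 0 := by decide +kernel
theorem tsl9_e_0 : allZ (dent tsl9 tsh_P (nat_lit 1782)) (nat_lit 0) (nat_lit 3) = true := by decide +kernel
theorem tsl9_h : 0 < tsl9.n ∧ 0 < tsl9.K ∧ tsl9.Pt 0 < 1782 ∧ tsl9.Q (tsl9.Pt 0) = 0 := by decide +kernel
theorem tsl10_e_0 : allZ (dent tsl10 tsh_P (nat_lit 1782)) (nat_lit 0) (nat_lit 1) = true := by decide +kernel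
theorem tsl10_h : 0 < tsl10.n ∧ 0 < tsl10.K ∧ tsl10.Pt 0 < 1782 ∧ tsl10.Q (tsl10.Pt 0) = 0 := by decide +kernel
theorem tsl11_e_0 : allZ (dent tsl11 tsh_P (nat_lit 1782)) (nat_lit 0) (nat_lit 1) = true := by decide +kernel
theorem tsl11_h : 0 < tsl11.n ∧ 0 < tsl11.K ∧ tsl11.Pt 0 < 1782 ∧ tsl11.Q (tsl11.Pt 0) = 0 := by decide +kernel
theorem tsl12_e_0 : allZ (dent tsl12 tsh_P (nat_lit 1782)) (nat_lit 0) (nat_lit 3) = true := by decide +kernel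
theorem tsl12_h : 0 < tsl12.n ∧ 0 < tsl12.K ∧ tsl12.Pt 0 < 1782 ∧ tsl12.Q (tsl12.Pt 0) = 0 := by decide +kernel
theorem tsl13_e_0 : allZ (dent tsl13 tsh_P (nat_lit 1782)) (nat_lit 0) (nat_lit 1) = true := by decide +kernel
theorem tsl13_h : 0 < tsl13.n ∧ 0 < tsl13.K ∧ tsl13.Pt 0 < 1782 ∧ tsl13.Q (tsl13.Pt 0) = 0 := by decide +kernel
theorem tsl14_e_0 : allZ (dent tsl14 tsh_P (nat_lit 1782)) (nat_lit 0) (nat_lit 1) = true := by decide +kernel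
theorem tsl14_h : 0 < tsl14.n ∧ 0 < tsl14.K ∧ tsl14.Pt 0 < 1782 ∧ tsl14.Q (tsl14.Pt 0) = 0 := by decide +kernel
theorem tsl15_e_0 : allZ (dent tsl15 tsh_P (nat_lit 1782)) (nat_lit 0) (nat_lit 1) = true := by decide +kernel
theorem tsl15_h : 0 < tsl15.n ∧ 0 < tsl15.K ∧ tsl15.Pt 0 < 1782 ∧ tsl15.Q (tsl15.Pt 0) = 0 := by decide +kernel
theorem tsl16_e_0 : allZ (dent tsl16 tsh_P (nat_lit 1782)) (nat_lit 0) (nat_lit 1) = true := by decide +kernel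
theorem tsl16_h : 0 < tsl16.n ∧ 0 < tsl16.K ∧ tsl16.Pt 0 < 1782 ∧ tsl16.Q (tsl16.Pt 0) = 0 := by decide +kernel
theorem tsl17_e_0 : allZ (dent tsl17 tsh_P (nat_lit 1782)) (nat_lit 0) (nat_lit 1) = true := by decide +kernel
theorem tsl17_h : 0 < tsl17.n ∧ 0 < tsl17.K ∧ tsl17.Pt 0 < 1782 ∧ tsl17.Q (tsl17.Pt 0) = 0 := by decide +kernel
theorem tsl18_e_0 : allZ (dent tsl18 tsh_P (nat_lit 1782)) (nat_lit 0) (nat_lit 1) = true := by decide +kernel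
theorem tsl18_h : 0 < tsl18.n ∧ 0 < tsl18.K ∧ tsl18.Pt 0 < 1782 ∧ tsl18.Q (tsl18.Pt 0) = 0 := by decide +kernel
theorem tsl19_e_0 : allZ (dent tsl19 tsh_P (nat_lit 1782)) (nat_lit 0) (nat_lit 1) = true := by decide +kernel
theorem tsl19_h : 0 < tsl19.n ∧ 0 < tsl19.K ∧ tsl19.Pt 0 < 1782 ∧ tsl19.Q (tsl19.Pt 0) = 0 := by decide +kernel
theorem ts_f19 : (Nat.ble tsl19.K 67 && Nat.ble (topK []) tsl19.K && fixLetters tsh_P (topK []) (tsl19.Pt 0)) = true := by decide +kernel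
theorem ts_f18 : (Nat.ble tsl18.K 67 && Nat.ble (topK [tsl19]) tsl18.K && fixLetters tsh_P (topK [tsl19]) (tsl18.Pt 0)) = true := by decide +kernel
theorem ts_f17 : (Nat.ble tsl17.K 67 && Nat.ble (topK [tsl18, tsl19]) tsl17.K && fixLetters tsh_P (topK [tsl18, tsl19]) (tsl17.Pt 0)) = true := by decide +kernel
theorem ts_f16 : (Nat.ble tsl16.K 67 && Nat.ble (topK [tsl17, tsl18, tsl19]) tsl16.K && fixLetters tsh_P (topK [tsl17, tsl18, tsl19]) (tsl16.Pt 0)) = true := by decide +kernel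
theorem ts_f15 : (Nat.ble tsl15.K 67 && Nat.ble (topK [tsl16, tsl17, tsl18, tsl19]) tsl15.K && fixLetters tsh_P (topK [tsl16, tsl17, tsl18, tsl19]) (tsl15.Pt 0)) = true := by decide +kernel
theorem ts_f14 : (Nat.ble tsl14.K 67 && Nat.ble (topK [tsl15, tsl16, tsl17, tsl18, tsl19]) tsl14.K && fixLetters tsh_P (topK [tsl15, tsl16, tsl17, tsl18, tsl19]) (tsl14.Pt 0)) = true := by decide +kernel
theorem ts_f13 : (Nat.ble tsl13.K 67 && Nat.ble (topK [tsl14, tsl15, tsl16, tsl17, tsl18, tsl19]) tsl13.K && fixLetters tsh_P (topK [tsl14, tsl15, tsl16, tsl17, tsl18, tsl19]) (tsl13.Pt 0)) = true := by decide +kernel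
theorem ts_f12 : (Nat.ble tsl12.K 67 && Nat.ble (topK [tsl13, tsl14, tsl15, tsl16, tsl17, tsl18, tsl19]) tsl12.K && fixLetters tsh_P (topK [tsl13, tsl14, tsl15, tsl16, tsl17, tsl18, tsl19]) (tsl12.Pt 0)) = true := by decide +kernel
theorem ts_f11 : (Nat.ble tsl11.K 67 && Nat.ble (topK [tsl12, tsl13, tsl14, tsl15, tsl16, tsl17, tsl18, tsl19]) tsl11.K && fixLetters tsh_P (topK [tsl12, tsl13, tsl14, tsl15, tsl16, tsl17, tsl18, tsl19]) (tsl11.Pt 0)) = true := by decide +kernel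
theorem ts_f10 : (Nat.ble tsl10.K 67 && Nat.ble (topK [tsl11, tsl12, tsl13, tsl14, tsl15, tsl16, tsl17, tsl18, tsl19]) tsl10.K && fixLetters tsh_P (topK [tsl11, tsl12, tsl13, tsl14, tsl15, tsl16, tsl17, tsl18, tsl19]) (tsl10.Pt 0)) = true := by decide +kernel
theorem ts_f9 : (Nat.ble tsl9.K 67 && Nat.ble (topK [tsl10, tsl11, tsl12, tsl13, tsl14, tsl15, tsl16, tsl17, tsl18, tsl19]) tsl9.K && fixLetters tsh_P (topK [tsl10, tsl11, tsl12, tsl13, tsl14, tsl15, tsl16, tsl17, tsl18, tsl19]) (tsl9.Pt 0)) = true := by decide +kernel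
theorem ts_f8 : (Nat.ble tsl8.K 67 && Nat.ble (topK [tsl9, tsl10, tsl11, tsl12, tsl13, tsl14, tsl15, tsl16, tsl17, tsl18, tsl19]) tsl8.K && fixLetters tsh_P (topK [tsl9, tsl10, tsl11, tsl12, tsl13, tsl14, tsl15, tsl16, tsl17, tsl18, tsl19]) (tsl8.Pt 0)) = true := by decide +kernel
theorem ts_f7 : (Nat.ble tsl7.K 67 && Nat.ble (topK [tsl8, tsl9, tsl10, tsl11, tsl12, tsl13, tsl14, tsl15, tsl16, tsl17, tsl18, tsl19]) tsl7.K && fixLetters tsh_P (topK [tsl8, tsl9, tsl10, tsl11, tsl12, tsl13, tsl14, tsl15, tsl16, tsl17, tsl18, tsl19]) (tsl7.Pt 0)) = true := by decide +kernel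
theorem ts_f6 : (Nat.ble tsl6.K 67 && Nat.ble (topK [tsl7, tsl8, tsl9, tsl10, tsl11, tsl12, tsl13, tsl14, tsl15, tsl16, tsl17, tsl18, tsl19]) tsl6.K && fixLetters tsh_P (topK [tsl7, tsl8, tsl9, tsl10, tsl11, tsl12, tsl13, tsl14, tsl15, tsl16, tsl17, tsl18, tsl19]) (tsl6.Pt 0)) = true := by decide +kernel
theorem ts_f5 : (Nat.ble tsl5.K 67 && Nat.ble (topK [tsl6, tsl7, tsl8, tsl9, tsl10, tsl11, tsl12, tsl13, tsl14, tsl15, tsl16, tsl17, tsl18, tsl19]) tsl5.K && fixLetters tsh_P (topK [tsl6, tsl7, tsl8, tsl9, tsl10, tsl11, tsl12, tsl13, tsl14, tsl15, tsl16, tsl17, tsl18, tsl19]) (tsl5.Pt 0)) = true := by decide +kernel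
theorem ts_f4 : (Nat.ble tsl4.K 67 && Nat.ble (topK [tsl5, tsl6, tsl7, tsl8, tsl9, tsl10, tsl11, tsl12, tsl13, tsl14, tsl15, tsl16, tsl17, tsl18, tsl19]) tsl4.K && fixLetters tsh_P (topK [tsl5, tsl6, tsl7, tsl8, tsl9, tsl10, tsl11, tsl12, tsl13, tsl14, tsl15, tsl16, tsl17, tsl18, tsl19]) (tsl4.Pt 0)) = true := by decide +kernel
theorem ts_f3 : (Nat.ble tsl3.K 67 && Nat.ble (topK [tsl4, tsl5, tsl6, tsl7, tsl8, tsl9, tsl10, tsl11, tsl12, tsl13, tsl14, tsl15, tsl16, tsl17, tsl18, tsl19]) tsl3.K && fixLetters tsh_P (topK [tsl4, tsl5, tsl6, tsl7, tsl8, tsl9, tsl10, tsl11, tsl12, tsl13, tsl14, tsl15, tsl16, tsl17, tsl18, tsl19]) (tsl3.Pt 0)) = true := by decide +kernel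
theorem ts_f2 : (Nat.ble tsl2.K 67 && Nat.ble (topK [tsl3, tsl4, tsl5, tsl6, tsl7, tsl8, tsl9, tsl10, tsl11, tsl12, tsl13, tsl14, tsl15, tsl16, tsl17, tsl18, tsl19]) tsl2.K && fixLetters tsh_P (topK [tsl3, tsl4, tsl5, tsl6, tsl7, tsl8, tsl9, tsl10, tsl11, tsl12, tsl13, tsl14, tsl15, tsl16, tsl17, tsl18, tsl19]) (tsl2.Pt 0)) = true := by decide +kernel
theorem ts_f1 : (Nat.ble tsl1.K 67 && Nat.ble (topK [tsl2, tsl3, tsl4, tsl5, tsl6, tsl7, tsl8, tsl9, tsl10, tsl11, tsl12, tsl13, tsl14, tsl15, tsl16, tsl17, tsl18, tsl19]) tsl1.K && fixLetters tsh_P (topK [tsl2, tsl3, tsl4, tsl5, tsl6, tsl7, tsl8, tsl9, tsl10, tsl11, tsl12, tsl13, tsl14, tsl15, tsl16, tsl17, tsl18, tsl19]) (tsl1.Pt 0)) = true := by decide +kernel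
theorem ts_f0 : (Nat.ble tsl0.K 67 && Nat.ble (topK [tsl1, tsl2, tsl3, tsl4, tsl5, tsl6, tsl7, tsl8, tsl9, tsl10, tsl11, tsl12, tsl13, tsl14, tsl15, tsl16, tsl17, tsl18, tsl19]) tsl0.K && fixLetters tsh_P (topK [tsl1, tsl2, tsl3, tsl4, tsl5, tsl6, tsl7, tsl8, tsl9, tsl10, tsl11, tsl12, tsl13, tsl14, tsl15, tsl16, tsl17, tsl18, tsl19]) (tsl0.Pt 0)) = true := by decide +kernel
theorem ts_c : chainCard [tsl0, tsl1, tsl2, tsl3, tsl4, tsl5, tsl6, tsl7, tsl8, tsl9, tsl10, tsl11, tsl12, tsl13, tsl14, tsl15, tsl16, tsl17, tsl18, tsl19] = 9643575969054720 := by decide +kernel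
theorem cse_lt : allL (ltAll 53) cse_W = true := by decide +kernel
theorem csc19_e_0 : allZ (dent csc19 cse_P (nat_lit 1782)) (nat_lit 0) (nat_lit 1) = true := by decide +kernel
theorem csc19_h : 0 < csc19.n ∧ 0 < csc19.K ∧ csc19.Pt 0 < 1782 ∧ csc19.Q (csc19.Pt 0) = 0 := by decide +kernel
theorem tsn0_0 : (Nat.ble tsl19.K 67 && Nat.beq (ltAll 1782 [tsl18.Pt 0, tsl17.Pt 0, tsl16.Pt 0, tsl15.Pt 0, tsl14.Pt 0, tsl13.Pt 0, tsl12.Pt 0, tsl11.Pt 0, tsl10.Pt 0, tsl9.Pt 0, tsl8.Pt 0, tsl7.Pt 0, tsl6.Pt 0, tsl5.Pt 0, tsl4.Pt 0, tsl3.Pt 0, tsl2.Pt 0, tsl1.Pt 0, tsl0.Pt 0]) 0 && kChk cse_P (rl [nat_lit 10] H18.TE.M.P) tsn0.Kn 1 H18.TE.M.B [tsl18.Pt 0, tsl17.Pt 0, tsl16.Pt 0, tsl15.Pt 0, tsl14.Pt 0, tsl13.Pt 0, tsl12.Pt 0, tsl11.Pt 0, tsl10.Pt 0, tsl9.Pt 0, tsl8.Pt 0, tsl7.Pt 0, tsl6.Pt 0, tsl5.Pt 0, tsl4.Pt 0, tsl3.Pt 0,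 tsl2.Pt 0, tsl1.Pt 0, tsl0.Pt 0] && allL (ltAll 1) tsn0.pre && planOK tsh_P (rl [nat_lit 10] H18.TE.M.P) 1 (tsl19.Pt 0) tsn0.plan [tsl19]) = true := by decide +kernel
theorem tsn0_1_0 : allZ (tsn0.ent H18.TE.M.P tsh_P (rl [nat_lit 10] H18.TE.M.P) (rl [nat_lit 10] H18.TE.M.P) cse_P (nat_lit 53) (nat_lit 1) H18.TE.M.B tsl19 [] (memO csc19)) (nat_lit 0) (nat_lit 2) = true := by decide +kernel
theorem cs_f19 : (Nat.ble csc19.K 25 && Nat.ble (topK []) csc19.K && Nat.beq (csc19.Pt 0) (tsl19.Pt 0) && Nat.beq (ltAll 1782 [tsl18.Pt 0, tsl17.Pt 0, tsl16.Pt 0, tsl15.Pt 0, tsl14.Pt 0, tsl13.Pt 0, tsl12.Pt 0, tsl11.Pt 0, tsl10.Pt 0, tsl9.Pt 0, tsl8.Pt 0, tsl7.Pt 0, tsl6.Pt 0, tsl5.Pt 0, tsl4.Pt 0, tsl3.Pt 0, tsl2.Pt 0, tsl1.Pt 0, tsl0.Pt 0]) 0 && kChk cse_P (rl [nat_lit 10] H18.TE.M.P) csc19.K 1 H18.TE.M.B [tsl18.Pt 0, tsl17.Pt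 0, tsl16.Pt 0, tsl15.Pt 0, tsl14.Pt 0, tsl13.Pt 0, tsl12.Pt 0, tsl11.Pt 0, tsl10.Pt 0, tsl9.Pt 0, tsl8.Pt 0, tsl7.Pt 0, tsl6.Pt 0, tsl5.Pt 0, tsl4.Pt 0, tsl3.Pt 0, tsl2.Pt 0, tsl1.Pt 0, tsl0.Pt 0]) = true := by decide +kernel
theorem csc18_e_0 : allZ (dent csc18 cse_P (nat_lit 1782)) (nat_lit 0) (nat_lit 1) = true := by decide +kernel
theorem csc18_h : 0 < csc18.n ∧ 0 < csc18.K ∧ csc18.Pt 0 < 1782 ∧ csc18.Q (csc18.Pt 0) = 0 := by decide +kernel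
theorem tsn1_0 : (Nat.ble tsl18.K 67 && Nat.beq (ltAll 1782 [tsl17.Pt 0, tsl16.Pt 0, tsl15.Pt 0, tsl14.Pt 0, tsl13.Pt 0, tsl12.Pt 0, tsl11.Pt 0, tsl10.Pt 0, tsl9.Pt 0, tsl8.Pt 0, tsl7.Pt 0, tsl6.Pt 0, tsl5.Pt 0, tsl4.Pt 0, tsl3.Pt 0, tsl2.Pt 0, tsl1.Pt 0, tsl0.Pt 0]) 0 && kChk cse_P (rl [nat_lit 10] H18.TE.M.P) tsn1.Kn 1 H18.TE.M.B [tsl17.Pt 0, tsl16.Pt 0, tsl15.Pt 0, tsl14.Pt 0, tsl13.Pt 0, tsl12.Pt 0, tsl11.Pt 0, tsl10.Pt 0, tsl9.Pt 0, tsl8.Pt 0, tsl7.Pt 0, tsl6.Pt 0, tsl5.Pt 0, tsl4.Pt 0, tsl3.Pt 0, tsl2.Pt 0, tsl1.Pt 0, tsl0.Pt 0] && allL (ltAll 1) tsn1.pre && planOK tsh_P (rl [nat_lit 10] H18.TE.M.P) 1 (tsl18.Pt 0) tsn1.plan [tsl18, tsl19]) = true := by decide +kernel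
theorem tsn1_1_0 : allZ (tsn1.ent H18.TE.M.P tsh_P (rl [nat_lit 10] H18.TE.M.P) (rl [nat_lit 10] H18.TE.M.P) cse_P (nat_lit 53) (nat_lit 1) H18.TE.M.B tsl18 [tsl19] (memO csc18)) (nat_lit 0) (nat_lit 2) = true := by decide +kernel
theorem cs_f18 : (Nat.ble csc18.K 25 && Nat.ble (topK [csc19]) csc18.K && Nat.beq (csc18.Pt 0) (tsl18.Pt 0) && Nat.beq (ltAll 1782 [tsl17.Pt 0, tsl16.Pt 0, tsl15.Pt 0, tsl14.Pt 0, tsl13.Pt 0, tsl12.Pt 0, tsl11.Pt 0, tsl10.Pt 0, tsl9.Pt 0, tsl8.Pt 0, tsl7.Pt 0, tsl6.Pt 0, tsl5.Pt 0, tsl4.Pt 0, tsl3.Pt 0, tsl2.Pt 0, tsl1.Pt 0, tsl0.Pt 0]) 0 && kChk cse_P (rl [nat_lit 10] H18.TE.M.P) csc18.K 1 H18.TE.M.B [tsl17.Pt 0, tsl16.Pt 0, tsl15.Pt 0, tsl14.Pt 0, tsl13.Pt 0, tsl12.Pt 0, tsl11.Pt 0, tsl10.Pt 0, tsl9.Pt 0, tsl8.Pt 0, tsl7.Pt 0, tsl6.Pt 0, tsl5.Pt 0, tsl4.Pt 0, tsl3.Pt 0, tsl2.Pt 0,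 tsl1.Pt 0, tsl0.Pt 0]) = true := by decide +kernel
theorem csc17_e_0 : allZ (dent csc17 cse_P (nat_lit 1782)) (nat_lit 0) (nat_lit 1) = true := by decide +kernel
theorem csc17_h : 0 < csc17.n ∧ 0 < csc17.K ∧ csc17.Pt 0 < 1782 ∧ csc17.Q (csc17.Pt 0) = 0 := by decide +kernel
theorem tsn2_0 : (Nat.ble tsl17.K 67 && Nat.beq (ltAll 1782 [tsl16.Pt 0, tsl15.Pt 0, tsl14.Pt 0, tsl13.Pt 0, tsl12.Pt 0, tsl11.Pt 0, tsl10.Pt 0, tsl9.Pt 0, tsl8.Pt 0, tsl7.Pt 0, tsl6.Pt 0, tsl5.Pt 0, tsl4.Pt 0, tsl3.Pt 0, tsl2.Pt 0, tsl1.Pt 0, tsl0.Pt 0]) 0 && kChk cse_P (rl [nat_lit 10] H18.TE.M.P) tsn2.Kn 1 H18.TE.M.B [tsl16.Pt 0, tsl15.Pt 0, tsl14.Pt 0, tsl13.Pt 0, tsl12.Pt 0, tsl11.Pt 0, tsl10.Pt 0, tsl9.Pt 0, tsl8.Pt 0, tsl7.Pt 0, tsl6.Pt 0, tsl5.Pt 0, tsl4.Pt 0, tsl3.Pt 0, tsl2.Pt 0, tsl1.Pt 0, tsl0.Pt 0] && allL (ltAll 1) tsn2.pre &&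 planOK tsh_P (rl [nat_lit 10] H18.TE.M.P) 1 (tsl17.Pt 0) tsn2.plan [tsl17, tsl18, tsl19]) = true := by decide +kernel
theorem tsn2_1_0 : allZ (tsn2.ent H18.TE.M.P tsh_P (rl [nat_lit 10] H18.TE.M.P) (rl [nat_lit 10] H18.TE.M.P) cse_P (nat_lit 53) (nat_lit 1) H18.TE.M.B tsl17 [tsl18, tsl19] (memO csc17)) (nat_lit 0) (nat_lit 2) = true := by decide +kernel
theorem cs_f17 : (Nat.ble csc17.K 25 && Nat.ble (topK [csc18, csc19]) csc17.K && Nat.beq (csc17.Pt 0) (tsl17.Pt 0) && Nat.beq (ltAll 1782 [tsl16.Pt 0, tsl15.Pt 0, tsl14.Pt 0, tsl13.Pt 0, tsl12.Pt 0, tsl11.Pt 0, tsl10.Pt 0, tsl9.Pt 0, tsl8.Pt 0, tsl7.Pt 0, tsl6.Pt 0, tsl5.Pt 0, tsl4.Pt 0, tsl3.Pt 0, tsl2.Pt 0, tsl1.Pt 0, tsl0.Pt 0]) 0 && kChk cse_P (rl [nat_lit 10] H18.TE.M.P) csc17.K 1 H18.TE.M.B [tsl16.Pt 0, tsl15.Pt 0, tsl14.Pt 0, tsl13.Pt 0, tsl12.Pt 0, tsl11.Pt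 0, tsl10.Pt 0, tsl9.Pt 0, tsl8.Pt 0, tsl7.Pt 0, tsl6.Pt 0, tsl5.Pt 0, tsl4.Pt 0, tsl3.Pt 0, tsl2.Pt 0, tsl1.Pt 0, tsl0.Pt 0]) = true := by decide +kernel
theorem csc16_e_0 : allZ (dent csc16 cse_P (nat_lit 1782)) (nat_lit 0) (nat_lit 1) = true := by decide +kernel
theorem csc16_h : 0 < csc16.n ∧ 0 < csc16.K ∧ csc16.Pt 0 < 1782 ∧ csc16.Q (csc16.Pt 0) = 0 := by decide +kernel
theorem tsn3_0 : (Nat.ble tsl16.K 67 && Nat.beq (ltAll 1782 [tsl15.Pt 0, tsl14.Pt 0, tsl13.Pt 0, tsl12.Pt 0, tsl11.Pt 0, tsl10.Pt 0, tsl9.Pt 0, tsl8.Pt 0, tsl7.Pt 0, tsl6.Pt 0, tsl5.Pt 0, tsl4.Pt 0, tsl3.Pt 0, tsl2.Pt 0, tsl1.Pt 0, tsl0.Pt 0]) 0 && kChk cse_P (rl [nat_lit 10] H18.TE.M.P) tsn3.Kn 1 H18.TE.M.B [tsl15.Pt 0, tsl14.Pt 0, tsl13.Pt 0, tsl12.Pt 0, tsl11.Pt 0, tsl10.Pt 0, tsl9.Pt 0, tsl8.Pt 0, tsl7.Pt 0, tsl6.Pt 0, tsl5.Pt 0, tsl4.Pt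 0, tsl3.Pt 0, tsl2.Pt 0, tsl1.Pt 0, tsl0.Pt 0] && allL (ltAll 1) tsn3.pre && planOK tsh_P (rl [nat_lit 10] H18.TE.M.P) 1 (tsl16.Pt 0) tsn3.plan [tsl16, tsl17, tsl18, tsl19]) = true := by decide +kernel
theorem tsn3_1_0 : allZ (tsn3.ent H18.TE.M.P tsh_P (rl [nat_lit 10] H18.TE.M.P) (rl [nat_lit 10] H18.TE.M.P) cse_P (nat_lit 53) (nat_lit 1) H18.TE.M.B tsl16 [tsl17, tsl18, tsl19] (memO csc16)) (nat_lit 0) (nat_lit 2) = true := by decide +kernel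
theorem cs_f16 : (Nat.ble csc16.K 25 && Nat.ble (topK [csc17, csc18, csc19]) csc16.K && Nat.beq (csc16.Pt 0) (tsl16.Pt 0) && Nat.beq (ltAll 1782 [tsl15.Pt 0, tsl14.Pt 0, tsl13.Pt 0, tsl12.Pt 0, tsl11.Pt 0, tsl10.Pt 0, tsl9.Pt 0, tsl8.Pt 0, tsl7.Pt 0, tsl6.Pt 0, tsl5.Pt 0, tsl4.Pt 0, tsl3.Pt 0, tsl2.Pt 0, tsl1.Pt 0, tsl0.Pt 0]) 0 && kChk cse_P (rl [nat_lit 10] H18.TE.M.P) csc16.K 1 H18.TE.M.B [tsl15.Pt 0, tsl14.Pt 0, tsl13.Pt 0, tsl12.Pt 0, tsl11.Pt 0, tsl10.Pt 0, tsl9.Pt 0, tsl8.Pt 0, tsl7.Pt 0, tsl6.Pt 0, tsl5.Pt 0, tsl4.Pt 0, tsl3.Pt 0, tsl2.Pt 0, tsl1.Pt 0, tsl0.Pt 0]) = true := by decide +kernel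
theorem csc15_e_0 : allZ (dent csc15 cse_P (nat_lit 1782)) (nat_lit 0) (nat_lit 1) = true := by decide +kernel
theorem csc15_h : 0 < csc15.n ∧ 0 < csc15.K ∧ csc15.Pt 0 < 1782 ∧ csc15.Q (csc15.Pt 0) = 0 := by decide +kernel
theorem tsn4_0 : (Nat.ble tsl15.K 67 && Nat.beq (ltAll 1782 [tsl14.Pt 0, tsl13.Pt 0, tsl12.Pt 0, tsl11.Pt 0, tsl10.Pt 0, tsl9.Pt 0, tsl8.Pt 0, tsl7.Pt 0, tsl6.Pt 0, tsl5.Pt 0, tsl4.Pt 0, tsl3.Pt 0, tsl2.Pt 0, tsl1.Pt 0, tsl0.Pt 0]) 0 && kChk cse_P (rl [nat_lit 10] H18.TE.M.P) tsn4.Kn 1 H18.TE.M.B [tsl14.Pt 0, tsl13.Pt 0, tsl12.Pt 0, tsl11.Pt 0, tsl10.Pt 0, tsl9.Pt 0, tsl8.Pt 0, tsl7.Pt 0, tsl6.Pt 0, tsl5.Pt 0, tsl4.Pt 0, tsl3.Pt 0, tsl2.Pt 0, tsl1.Pt 0, tsl0.Pt 0] && allL (ltAll 1) tsn4.pre && planOK tsh_P (rl [nat_lit 10] H18.TE.M.P) 1 (tsl15.Pt 0) tsn4.plan [tsl15, tsl16, tsl17, tsl18, tsl19])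 = true := by decide +kernel
theorem tsn4_1_0 : allZ (tsn4.ent H18.TE.M.P tsh_P (rl [nat_lit 10] H18.TE.M.P) (rl [nat_lit 10] H18.TE.M.P) cse_P (nat_lit 53) (nat_lit 1) H18.TE.M.B tsl15 [tsl16, tsl17, tsl18, tsl19] (memO csc15)) (nat_lit 0) (nat_lit 2) = true := by decide +kernel
theorem cs_f15 : (Nat.ble csc15.K 25 && Nat.ble (topK [csc16, csc17, csc18, csc19]) csc15.K && Nat.beq (csc15.Pt 0) (tsl15.Pt 0) && Nat.beq (ltAll 1782 [tsl14.Pt 0, tsl13.Pt 0, tsl12.Pt 0, tsl11.Pt 0, tsl10.Pt 0, tsl9.Pt 0, tsl8.Pt 0, tsl7.Pt 0, tsl6.Pt 0, tsl5.Pt 0, tsl4.Pt 0, tsl3.Pt 0, tsl2.Pt 0, tsl1.Pt 0, tsl0.Pt 0]) 0 && kChk cse_P (rl [nat_lit 10] H18.TE.M.P) csc15.K 1 H18.TE.M.B [tsl14.Pt 0, tsl13.Pt 0, tsl12.Pt 0, tsl11.Pt 0, tsl10.Pt 0, tsl9.Pt 0, tsl8.Pt 0, tsl7.Pt 0, tsl6.Pt 0, tsl5.Pt 0, tsl4.Pt 0, tsl3.Pt 0, tsl2.Pt 0, tsl1.Pt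 0, tsl0.Pt 0]) = true := by decide +kernel
theorem csc14_e_0 : allZ (dent csc14 cse_P (nat_lit 1782)) (nat_lit 0) (nat_lit 1) = true := by decide +kernel
theorem csc14_h : 0 < csc14.n ∧ 0 < csc14.K ∧ csc14.Pt 0 < 1782 ∧ csc14.Q (csc14.Pt 0) = 0 := by decide +kernel
theorem tsn5_0 : (Nat.ble tsl14.K 67 && Nat.beq (ltAll 1782 [tsl13.Pt 0, tsl12.Pt 0, tsl11.Pt 0, tsl10.Pt 0, tsl9.Pt 0, tsl8.Pt 0, tsl7.Pt 0, tsl6.Pt 0, tsl5.Pt 0, tsl4.Pt 0, tsl3.Pt 0, tsl2.Pt 0, tsl1.Pt 0, tsl0.Pt 0]) 0 && kChk cse_P (rl [nat_lit 10] H18.TE.M.P) tsn5.Kn 1 H18.TE.M.B [tsl13.Pt 0, tsl12.Pt 0, tsl11.Pt 0, tsl10.Pt 0, tsl9.Pt 0, tsl8.Pt 0, tsl7.Pt 0, tsl6.Pt 0, tsl5.Pt 0, tsl4.Pt 0, tsl3.Pt 0, tsl2.Pt 0, tsl1.Pt 0, tsl0.Pt 0] && allL (ltAll 1) tsn5.pre && planOK tsh_P (rl [nat_lit 10] H18.TE.M.P) 1 (tsl14.Pt 0) tsn5.plan [tsl14, tsl15,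 tsl16, tsl17, tsl18, tsl19]) = true := by decide +kernel
theorem tsn5_1_0 : allZ (tsn5.ent H18.TE.M.P tsh_P (rl [nat_lit 10] H18.TE.M.P) (rl [nat_lit 10] H18.TE.M.P) cse_P (nat_lit 53) (nat_lit 1) H18.TE.M.B tsl14 [tsl15, tsl16, tsl17, tsl18, tsl19] (memO csc14)) (nat_lit 0) (nat_lit 2) = true := by decide +kernel
theorem cs_f14 : (Nat.ble csc14.K 25 && Nat.ble (topK [csc15, csc16, csc17, csc18, csc19]) csc14.K && Nat.beq (csc14.Pt 0) (tsl14.Pt 0) && Nat.beq (ltAll 1782 [tsl13.Pt 0, tsl12.Pt 0, tsl11.Pt 0, tsl10.Pt 0, tsl9.Pt 0, tsl8.Pt 0, tsl7.Pt 0, tsl6.Pt 0, tsl5.Pt 0, tsl4.Pt 0, tsl3.Pt 0, tsl2.Pt 0, tsl1.Pt 0, tsl0.Pt 0]) 0 && kChk cse_P (rl [nat_lit 10] H18.TE.M.P) csc14.K 1 H18.TE.M.B [tsl13.Pt 0, tsl12.Pt 0, tsl11.Pt 0, tsl10.Pt 0, tsl9.Pt 0, tsl8.Pt 0, tsl7.Pt 0, tsl6.Pt 0, tsl5.Pt 0, tsl4.Pt 0, tsl3.Pt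 0, tsl2.Pt 0, tsl1.Pt 0, tsl0.Pt 0]) = true := by decide +kernel
theorem csc13_e_0 : allZ (dent csc13 cse_P (nat_lit 1782)) (nat_lit 0) (nat_lit 1) = true := by decide +kernel
theorem csc13_h : 0 < csc13.n ∧ 0 < csc13.K ∧ csc13.Pt 0 < 1782 ∧ csc13.Q (csc13.Pt 0) = 0 := by decide +kernel
theorem tsn6_0 : (Nat.ble tsl13.K 67 && Nat.beq (ltAll 1782 [tsl12.Pt 0, tsl11.Pt 0, tsl10.Pt 0, tsl9.Pt 0, tsl8.Pt 0, tsl7.Pt 0, tsl6.Pt 0, tsl5.Pt 0, tsl4.Pt 0, tsl3.Pt 0, tsl2.Pt 0, tsl1.Pt 0, tsl0.Pt 0]) 0 && kChk cse_P (rl [nat_lit 10] H18.TE.M.P) tsn6.Kn 1 H18.TE.M.B [tsl12.Pt 0, tsl11.Pt 0, tsl10.Pt 0, tsl9.Pt 0, tsl8.Pt 0, tsl7.Pt 0, tsl6.Pt 0, tsl5.Pt 0, tsl4.Pt 0, tsl3.Pt 0, tsl2.Pt 0, tsl1.Pt 0, tsl0.Pt 0] && allL (ltAll 1) tsn6.pre && planOK tsh_P (rl [nat_lit 10] H18.TE.M.P) 1 (tsl13.Pt 0) tsn6.plan [tsl13, tsl14,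 tsl15, tsl16, tsl17, tsl18, tsl19]) = true := by decide +kernel
theorem tsn6_1_0 : allZ (tsn6.ent H18.TE.M.P tsh_P (rl [nat_lit 10] H18.TE.M.P) (rl [nat_lit 10] H18.TE.M.P) cse_P (nat_lit 53) (nat_lit 1) H18.TE.M.B tsl13 [tsl14, tsl15, tsl16, tsl17, tsl18, tsl19] (memO csc13)) (nat_lit 0) (nat_lit 2) = true := by decide +kernel
theorem cs_f13 : (Nat.ble csc13.K 25 && Nat.ble (topK [csc14, csc15, csc16, csc17, csc18, csc19]) csc13.K && Nat.beq (csc13.Pt 0) (tsl13.Pt 0) && Nat.beq (ltAll 1782 [tsl12.Pt 0, tsl11.Pt 0, tsl10.Pt 0, tsl9.Pt 0, tsl8.Pt 0, tsl7.Pt 0, tsl6.Pt 0, tsl5.Pt 0, tsl4.Pt 0, tsl3.Pt 0, tsl2.Pt 0, tsl1.Pt 0, tsl0.Pt 0]) 0 && kChk cse_P (rl [nat_lit 10] H18.TE.M.P) csc13.K 1 H18.TE.M.B [tsl12.Pt 0, tsl11.Pt 0, tsl10.Pt 0, tsl9.Pt 0, tsl8.Pt 0, tsl7.Pt 0, tsl6.Pt 0, tsl5.Pt 0, tsl4.Pt 0, tsl3.Pt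 0, tsl2.Pt 0, tsl1.Pt 0, tsl0.Pt 0]) = true := by decide +kernel
theorem csc12_e_0 : allZ (dent csc12 cse_P (nat_lit 1782)) (nat_lit 0) (nat_lit 1) = true := by decide +kernel
theorem csc12_h : 0 < csc12.n ∧ 0 < csc12.K ∧ csc12.Pt 0 < 1782 ∧ csc12.Q (csc12.Pt 0) = 0 := by decide +kernel
theorem tsn7_0 : (Nat.ble tsl12.K 67 && Nat.beq (ltAll 1782 [tsl11.Pt 0, tsl10.Pt 0, tsl9.Pt 0, tsl8.Pt 0, tsl7.Pt 0, tsl6.Pt 0, tsl5.Pt 0, tsl4.Pt 0, tsl3.Pt 0, tsl2.Pt 0, tsl1.Pt 0, tsl0.Pt 0]) 0 && kChk cse_P (rl [nat_lit 10] H18.TE.M.P) tsn7.Kn 1 H18.TE.M.B [tsl11.Pt 0, tsl10.Pt 0, tsl9.Pt 0, tsl8.Pt 0, tsl7.Pt 0, tsl6.Pt 0, tsl5.Pt 0, tsl4.Pt 0, tsl3.Pt 0, tsl2.Pt 0, tsl1.Pt 0, tsl0.Pt 0] && allL (ltAll 1) tsn7.pre && planOK tsh_P (rl [nat_lit 10] H18.TE.M.P) 1 (tsl12.Pt 0) tsn7.plan [tsl12, tsl13, tsl14, tsl15, tsl16, tsl17,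 tsl18, tsl19]) = true := by decide +kernel
theorem tsn7_1_0 : allZ (tsn7.ent H18.TE.M.P tsh_P (rl [nat_lit 10] H18.TE.M.P) (rl [nat_lit 10] H18.TE.M.P) cse_P (nat_lit 53) (nat_lit 1) H18.TE.M.B tsl12 [tsl13, tsl14, tsl15, tsl16, tsl17, tsl18, tsl19] (memO csc12)) (nat_lit 0) (nat_lit 4) = true := by decide +kernel
theorem cs_f12 : (Nat.ble csc12.K 25 && Nat.ble (topK [csc13, csc14, csc15, csc16, csc17, csc18, csc19]) csc12.K && Nat.beq (csc12.Pt 0) (tsl12.Pt 0) && Nat.beq (ltAll 1782 [tsl11.Pt 0, tsl10.Pt 0, tsl9.Pt 0, tsl8.Pt 0, tsl7.Pt 0, tsl6.Pt 0, tsl5.Pt 0, tsl4.Pt 0, tsl3.Pt 0, tsl2.Pt 0, tsl1.Pt 0, tsl0.Pt 0]) 0 && kChk cse_P (rl [nat_lit 10] H18.TE.M.P) csc12.K 1 H18.TE.M.B [tsl11.Pt 0, tsl10.Pt 0, tsl9.Pt 0, tsl8.Pt 0, tsl7.Pt 0, tsl6.Pt 0, tsl5.Pt 0, tsl4.Pt 0, tsl3.Pt 0, tsl2.Pt 0, tsl1.Pt 0, tsl0.Pt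 0]) = true := by decide +kernel
theorem csc11_e_0 : allZ (dent csc11 cse_P (nat_lit 1782)) (nat_lit 0) (nat_lit 1) = true := by decide +kernel
theorem csc11_h : 0 < csc11.n ∧ 0 < csc11.K ∧ csc11.Pt 0 < 1782 ∧ csc11.Q (csc11.Pt 0) = 0 := by decide +kernel
theorem tsn8_0 : (Nat.ble tsl11.K 67 && Nat.beq (ltAll 1782 [tsl10.Pt 0, tsl9.Pt 0, tsl8.Pt 0, tsl7.Pt 0, tsl6.Pt 0, tsl5.Pt 0, tsl4.Pt 0, tsl3.Pt 0, tsl2.Pt 0, tsl1.Pt 0, tsl0.Pt 0]) 0 && kChk cse_P (rl [nat_lit 10] H18.TE.M.P) tsn8.Kn 1 H18.TE.M.B [tsl10.Pt 0, tsl9.Pt 0, tsl8.Pt 0, tsl7.Pt 0, tsl6.Pt 0, tsl5.Pt 0, tsl4.Pt 0, tsl3.Pt 0, tsl2.Pt 0, tsl1.Pt 0, tsl0.Pt 0] && allL (ltAll 1) tsn8.pre && planOK tsh_P (rl [nat_lit 10] H18.TE.M.P) 1 (tsl11.Pt 0) tsn8.plan [tsl11, tsl12, tsl13, tsl14, tsl15, tsl16, tsl17, tsl18, tsl19]) = true := by decide +kernel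
theorem tsn8_1_0 : allZ (tsn8.ent H18.TE.M.P tsh_P (rl [nat_lit 10] H18.TE.M.P) (rl [nat_lit 10] H18.TE.M.P) cse_P (nat_lit 53) (nat_lit 1) H18.TE.M.B tsl11 [tsl12, tsl13, tsl14, tsl15, tsl16, tsl17, tsl18, tsl19] (memO csc11)) (nat_lit 0) (nat_lit 2) = true := by decide +kernel
theorem cs_f11 : (Nat.ble csc11.K 25 && Nat.ble (topK [csc12, csc13, csc14, csc15, csc16, csc17, csc18, csc19]) csc11.K && Nat.beq (csc11.Pt 0) (tsl11.Pt 0) && Nat.beq (ltAll 1782 [tsl10.Pt 0, tsl9.Pt 0, tsl8.Pt 0, tsl7.Pt 0, tsl6.Pt 0, tsl5.Pt 0, tsl4.Pt 0, tsl3.Pt 0, tsl2.Pt 0, tsl1.Pt 0, tsl0.Pt 0]) 0 && kChk cse_P (rl [nat_lit 10] H18.TE.M.P) csc11.K 1 H18.TE.M.B [tsl10.Pt 0, tsl9.Pt 0, tsl8.Pt 0, tsl7.Pt 0, tsl6.Pt 0, tsl5.Pt 0, tsl4.Pt 0, tsl3.Pt 0, tsl2.Pt 0, tsl1.Pt 0, tsl0.Pt 0]) = true := by decide +kernel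
theorem csc10_e_0 : allZ (dent csc10 cse_P (nat_lit 1782)) (nat_lit 0) (nat_lit 1) = true := by decide +kernel
theorem csc10_h : 0 < csc10.n ∧ 0 < csc10.K ∧ csc10.Pt 0 < 1782 ∧ csc10.Q (csc10.Pt 0) = 0 := by decide +kernel
theorem tsn9_0 : (Nat.ble tsl10.K 67 && Nat.beq (ltAll 1782 [tsl9.Pt 0, tsl8.Pt 0, tsl7.Pt 0, tsl6.Pt 0, tsl5.Pt 0, tsl4.Pt 0, tsl3.Pt 0, tsl2.Pt 0, tsl1.Pt 0, tsl0.Pt 0]) 0 && kChk cse_P (rl [nat_lit 10] H18.TE.M.P) tsn9.Kn 1 H18.TE.M.B [tsl9.Pt 0, tsl8.Pt 0, tsl7.Pt 0, tsl6.Pt 0, tsl5.Pt 0, tsl4.Pt 0, tsl3.Pt 0, tsl2.Pt 0, tsl1.Pt 0, tsl0.Pt 0] && allL (ltAll 1) tsn9.pre && planOK tsh_P (rl [nat_lit 10] H18.TE.M.P) 1 (tsl10.Pt 0) tsn9.plan [tsl10, tsl11, tsl12, tsl13, tsl14, tsl15, tsl16, tsl17, tsl18, tsl19]) = true := by decide +kernel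
theorem tsn9_1_0 : allZ (tsn9.ent H18.TE.M.P tsh_P (rl [nat_lit 10] H18.TE.M.P) (rl [nat_lit 10] H18.TE.M.P) cse_P (nat_lit 53) (nat_lit 1) H18.TE.M.B tsl10 [tsl11, tsl12, tsl13, tsl14, tsl15, tsl16, tsl17, tsl18, tsl19] (memO csc10)) (nat_lit 0) (nat_lit 2) = true := by decide +kernel
theorem cs_f10 : (Nat.ble csc10.K 25 && Nat.ble (topK [csc11, csc12, csc13, csc14, csc15, csc16, csc17, csc18, csc19]) csc10.K && Nat.beq (csc10.Pt 0) (tsl10.Pt 0) && Nat.beq (ltAll 1782 [tsl9.Pt 0, tsl8.Pt 0, tsl7.Pt 0, tsl6.Pt 0, tsl5.Pt 0, tsl4.Pt 0, tsl3.Pt 0, tsl2.Pt 0, tsl1.Pt 0, tsl0.Pt 0]) 0 && kChk cse_P (rl [nat_lit 10] H18.TE.M.P) csc10.K 1 H18.TE.M.B [tsl9.Pt 0, tsl8.Pt 0, tsl7.Pt 0, tsl6.Pt 0, tsl5.Pt 0, tsl4.Pt 0, tsl3.Pt 0, tsl2.Pt 0, tsl1.Pt 0, tsl0.Pt 0]) = true := by decide +kernel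
theorem csc9_e_0 : allZ (dent csc9 cse_P (nat_lit 1782)) (nat_lit 0) (nat_lit 1) = true := by decide +kernel
theorem csc9_h : 0 < csc9.n ∧ 0 < csc9.K ∧ csc9.Pt 0 < 1782 ∧ csc9.Q (csc9.Pt 0) = 0 := by decide +kernel
theorem tsn10_0 : (Nat.ble tsl9.K 67 && Nat.beq (ltAll 1782 [tsl8.Pt 0, tsl7.Pt 0, tsl6.Pt 0, tsl5.Pt 0, tsl4.Pt 0, tsl3.Pt 0, tsl2.Pt 0, tsl1.Pt 0, tsl0.Pt 0]) 0 && kChk cse_P (rl [nat_lit 10] H18.TE.M.P) tsn10.Kn 1 H18.TE.M.B [tsl8.Pt 0, tsl7.Pt 0, tsl6.Pt 0, tsl5.Pt 0, tsl4.Pt 0, tsl3.Pt 0, tsl2.Pt 0, tsl1.Pt 0, tsl0.Pt 0] && allL (ltAll 1) tsn10.pre && planOK tsh_P (rl [nat_lit 10] H18.TE.M.P) 1 (tsl9.Pt 0) tsn10.plan [tsl9, tsl10, tsl11, tsl12, tsl13, tsl14, tsl15, tsl16, tsl17, tsl18, tsl19]) = true := by decide +kernel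
theorem tsn10_1_0 : allZ (tsn10.ent H18.TE.M.P tsh_P (rl [nat_lit 10] H18.TE.M.P) (rl [nat_lit 10] H18.TE.M.P) cse_P (nat_lit 53) (nat_lit 1) H18.TE.M.B tsl9 [tsl10, tsl11, tsl12, tsl13, tsl14, tsl15, tsl16, tsl17, tsl18, tsl19] (memO csc9)) (nat_lit 0) (nat_lit 4) = true := by decide +kernel
theorem cs_f9 : (Nat.ble csc9.K 25 && Nat.ble (topK [csc10, csc11, csc12, csc13, csc14, csc15, csc16, csc17, csc18, csc19]) csc9.K && Nat.beq (csc9.Pt 0) (tsl9.Pt 0) && Nat.beq (ltAll 1782 [tsl8.Pt 0, tsl7.Pt 0, tsl6.Pt 0, tsl5.Pt 0, tsl4.Pt 0, tsl3.Pt 0, tsl2.Pt 0, tsl1.Pt 0, tsl0.Pt 0]) 0 && kChk cse_P (rl [nat_lit 10] H18.TE.M.P) csc9.K 1 H18.TE.M.B [tsl8.Pt 0, tsl7.Pt 0, tsl6.Pt 0, tsl5.Pt 0, tsl4.Pt 0, tsl3.Pt 0, tsl2.Pt 0, tsl1.Pt 0, tsl0.Pt 0]) = true := by decide +kernel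
theorem csc8_e_0 : allZ (dent csc8 cse_P (nat_lit 1782)) (nat_lit 0) (nat_lit 1) = true := by decide +kernel
theorem csc8_h : 0 < csc8.n ∧ 0 < csc8.K ∧ csc8.Pt 0 < 1782 ∧ csc8.Q (csc8.Pt 0) = 0 := by decide +kernel
theorem tsn11_0 : (Nat.ble tsl8.K 67 && Nat.beq (ltAll 1782 [tsl7.Pt 0, tsl6.Pt 0, tsl5.Pt 0, tsl4.Pt 0, tsl3.Pt 0, tsl2.Pt 0, tsl1.Pt 0, tsl0.Pt 0]) 0 && kChk cse_P (rl [nat_lit 10] H18.TE.M.P) tsn11.Kn 1 H18.TE.M.B [tsl7.Pt 0, tsl6.Pt 0, tsl5.Pt 0, tsl4.Pt 0, tsl3.Pt 0, tsl2.Pt 0, tsl1.Pt 0, tsl0.Pt 0] && allL (ltAll 1) tsn11.pre && planOK tsh_P (rl [nat_lit 10] H18.TE.M.P) 1 (tsl8.Pt 0) tsn11.plan [tsl8, tsl9, tsl10, tsl11, tsl12, tsl13, tsl14, tsl15, tsl16, tsl17, tsl18, tsl19]) = true := by decide +kernel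
theorem tsn11_1_0 : allZ (tsn11.ent H18.TE.M.P tsh_P (rl [nat_lit 10] H18.TE.M.P) (rl [nat_lit 10] H18.TE.M.P) cse_P (nat_lit 53) (nat_lit 1) H18.TE.M.B tsl8 [tsl9, tsl10, tsl11, tsl12, tsl13, tsl14, tsl15, tsl16, tsl17, tsl18, tsl19] (memO csc8)) (nat_lit 0) (nat_lit 4) = true := by decide +kernel
theorem cs_f8 : (Nat.ble csc8.K 25 && Nat.ble (topK [csc9, csc10, csc11, csc12, csc13, csc14, csc15, csc16, csc17, csc18, csc19]) csc8.K && Nat.beq (csc8.Pt 0) (tsl8.Pt 0) && Nat.beq (ltAll 1782 [tsl7.Pt 0, tsl6.Pt 0, tsl5.Pt 0, tsl4.Pt 0, tsl3.Pt 0, tsl2.Pt 0, tsl1.Pt 0, tsl0.Pt 0]) 0 && kChk cse_P (rl [nat_lit 10] H18.TE.M.P) csc8.K 1 H18.TE.M.B [tsl7.Pt 0, tsl6.Pt 0, tsl5.Pt 0, tsl4.Pt 0, tsl3.Pt 0, tsl2.Pt 0, tsl1.Pt 0, tsl0.Pt 0]) = true := by decide +kernel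
theorem csc7_e_0 : allZ (dent csc7 cse_P (nat_lit 1782)) (nat_lit 0) (nat_lit 1) = true := by decide +kernel
theorem csc7_h : 0 < csc7.n ∧ 0 < csc7.K ∧ csc7.Pt 0 < 1782 ∧ csc7.Q (csc7.Pt 0) = 0 := by decide +kernel
theorem tsn12_0 : (Nat.ble tsl7.K 67 && Nat.beq (ltAll 1782 [tsl6.Pt 0, tsl5.Pt 0, tsl4.Pt 0, tsl3.Pt 0, tsl2.Pt 0, tsl1.Pt 0, tsl0.Pt 0]) 0 && kChk cse_P (rl [nat_lit 10] H18.TE.M.P) tsn12.Kn 1 H18.TE.M.B [tsl6.Pt 0, tsl5.Pt 0, tsl4.Pt 0, tsl3.Pt 0, tsl2.Pt 0, tsl1.Pt 0, tsl0.Pt 0] && allL (ltAll 1) tsn12.pre && planOK tsh_P (rl [nat_lit 10] H18.TE.M.P) 1 (tsl7.Pt 0) tsn12.plan [tsl7, tsl8, tsl9, tsl10, tsl11, tsl12, tsl13, tsl14, tsl15, tsl16, tsl17, tsl18, tsl19]) = true := by decide +kernel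
theorem tsn12_1_0 : allZ (tsn12.ent H18.TE.M.P tsh_P (rl [nat_lit 10] H18.TE.M.P) (rl [nat_lit 10] H18.TE.M.P) cse_P (nat_lit 53) (nat_lit 1) H18.TE.M.B tsl7 [tsl8, tsl9, tsl10, tsl11, tsl12, tsl13, tsl14, tsl15, tsl16, tsl17, tsl18, tsl19] (memO csc7)) (nat_lit 0) (nat_lit 4) = true := by decide +kernel
theorem cs_f7 : (Nat.ble csc7.K 25 && Nat.ble (topK [csc8, csc9, csc10, csc11, csc12, csc13, csc14, csc15, csc16, csc17, csc18, csc19]) csc7.K && Nat.beq (csc7.Pt 0) (tsl7.Pt 0) && Nat.beq (ltAll 1782 [tsl6.Pt 0, tsl5.Pt 0, tsl4.Pt 0, tsl3.Pt 0, tsl2.Pt 0, tsl1.Pt 0, tsl0.Pt 0]) 0 && kChk cse_P (rl [nat_lit 10] H18.TE.M.P) csc7.K 1 H18.TE.M.B [tsl6.Pt 0, tsl5.Pt 0, tsl4.Pt 0, tsl3.Pt 0, tsl2.Pt 0, tsl1.Pt 0, tsl0.Pt 0]) = true := by decide +kernel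
theorem csc6_e_0 : allZ (dent csc6 cse_P (nat_lit 1782)) (nat_lit 0) (nat_lit 31) = true := by decide +kernel
theorem csc6_h : 0 < csc6.n ∧ 0 < csc6.K ∧ csc6.Pt 0 < 1782 ∧ csc6.Q (csc6.Pt 0) = 0 := by decide +kernel
theorem tsn13_0 : (Nat.ble tsl6.K 67 && Nat.beq (ltAll 1782 [tsl5.Pt 0, tsl4.Pt 0, tsl3.Pt 0, tsl2.Pt 0, tsl1.Pt 0, tsl0.Pt 0]) 0 && kChk cse_P (rl [nat_lit 10] H18.TE.M.P) tsn13.Kn 1 H18.TE.M.B [tsl5.Pt 0, tsl4.Pt 0, tsl3.Pt 0, tsl2.Pt 0, tsl1.Pt 0, tsl0.Pt 0] && allL (ltAll 1) tsn13.pre && planOK tsh_P (rl [nat_lit 10] H18.TE.M.P) 1 (tsl6.Pt 0) tsn13.plan [tsl6, tsl7, tsl8, tsl9, tsl10, tsl11, tsl12, tsl13, tsl14, tsl15, tsl16, tsl17, tsl18, tsl19]) = true := by decide +kernel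
theorem tsn13_1_0 : allZ (tsn13.ent H18.TE.M.P tsh_P (rl [nat_lit 10] H18.TE.M.P) (rl [nat_lit 10] H18.TE.M.P) cse_P (nat_lit 53) (nat_lit 1) H18.TE.M.B tsl6 [tsl7, tsl8, tsl9, tsl10, tsl11, tsl12, tsl13, tsl14, tsl15, tsl16, tsl17, tsl18, tsl19] (memO csc6)) (nat_lit 0) (nat_lit 64) = true := by decide +kernel
theorem cs_f6 : (Nat.ble csc6.K 25 && Nat.ble (topK [csc7, csc8, csc9, csc10, csc11, csc12, csc13, csc14, csc15, csc16, csc17, csc18, csc19]) csc6.K && Nat.beq (csc6.Pt 0) (tsl6.Pt 0) && Nat.beq (ltAll 1782 [tsl5.Pt 0, tsl4.Pt 0, tsl3.Pt 0, tsl2.Pt 0, tsl1.Pt 0, tsl0.Pt 0]) 0 && kChk cse_P (rl [nat_lit 10] H18.TE.M.P) csc6.K 1 H18.TE.M.B [tsl5.Pt 0, tsl4.Pt 0, tsl3.Pt 0, tsl2.Pt 0, tsl1.Pt 0, tsl0.Pt 0]) = true := by decide +kernel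
theorem csc5_e_0 : allZ (dent csc5 cse_P (nat_lit 1782)) (nat_lit 0) (nat_lit 1) = true := by decide +kernel
theorem csc5_h : 0 < csc5.n ∧ 0 < csc5.K ∧ csc5.Pt 0 < 1782 ∧ csc5.Q (csc5.Pt 0) = 0 := by decide +kernel
theorem tsn14_0 : (Nat.ble tsl5.K 67 && Nat.beq (ltAll 1782 [tsl4.Pt 0, tsl3.Pt 0, tsl2.Pt 0, tsl1.Pt 0, tsl0.Pt 0]) 0 && kChk cse_P (rl [nat_lit 10] H18.TE.M.P) tsn14.Kn 1 H18.TE.M.B [tsl4.Pt 0, tsl3.Pt 0, tsl2.Pt 0, tsl1.Pt 0, tsl0.Pt 0] && allL (ltAll 1) tsn14.pre && planOK tsh_P (rl [nat_lit 10] H18.TE.M.P) 1 (tsl5.Pt 0) tsn14.plan [tsl5, tsl6, tsl7, tsl8, tsl9, tsl10, tsl11, tsl12, tsl13, tsl14, tsl15, tsl16, tsl17, tsl18, tsl19]) = true := by decide +kernel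
theorem tsn14_1_0 : allZ (tsn14.ent H18.TE.M.P tsh_P (rl [nat_lit 10] H18.TE.M.P) (rl [nat_lit 10] H18.TE.M.P) cse_P (nat_lit 53) (nat_lit 1) H18.TE.M.B tsl5 [tsl6, tsl7, tsl8, tsl9, tsl10, tsl11, tsl12, tsl13, tsl14, tsl15, tsl16, tsl17, tsl18, tsl19] (memO csc5)) (nat_lit 0) (nat_lit 2) = true := by decide +kernel
theorem cs_f5 : (Nat.ble csc5.K 25 && Nat.ble (topK [csc6, csc7, csc8, csc9, csc10, csc11, csc12, csc13, csc14, csc15, csc16, csc17, csc18, csc19]) csc5.K && Nat.beq (csc5.Pt 0) (tsl5.Pt 0) && Nat.beq (ltAll 1782 [tsl4.Pt 0, tsl3.Pt 0, tsl2.Pt 0, tsl1.Pt 0, tsl0.Pt 0]) 0 && kChk cse_P (rl [nat_lit 10] H18.TE.M.P) csc5.K 1 H18.TE.M.B [tsl4.Pt 0, tsl3.Pt 0, tsl2.Pt 0, tsl1.Pt 0, tsl0.Pt 0]) = true := by decide +kernel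
theorem csc4_e_0 : allZ (dent csc4 cse_P (nat_lit 1782)) (nat_lit 0) (nat_lit 5) = true := by decide +kernel
theorem csc4_h : 0 < csc4.n ∧ 0 < csc4.K ∧ csc4.Pt 0 < 1782 ∧ csc4.Q (csc4.Pt 0) = 0 := by decide +kernel
theorem tsn15_0 : (Nat.ble tsl4.K 67 && Nat.beq (ltAll 1782 [tsl3.Pt 0, tsl2.Pt 0, tsl1.Pt 0, tsl0.Pt 0]) 0 && kChk cse_P (rl [nat_lit 10] H18.TE.M.P) tsn15.Kn 1 H18.TE.M.B [tsl3.Pt 0, tsl2.Pt 0, tsl1.Pt 0, tsl0.Pt 0] && allL (ltAll 1) tsn15.pre && planOK tsh_P (rl [nat_lit 10] H18.TE.M.P) 1 (tsl4.Pt 0) tsn15.plan [tsl4, tsl5, tsl6, tsl7, tsl8, tsl9, tsl10, tsl11, tsl12, tsl13, tsl14, tsl15, tsl16, tsl17, tsl18, tsl19]) = true := by decide +kernel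
theorem tsn15_1_0 : allZ (tsn15.ent H18.TE.M.P tsh_P (rl [nat_lit 10] H18.TE.M.P) (rl [nat_lit 10] H18.TE.M.P) cse_P (nat_lit 53) (nat_lit 1) H18.TE.M.B tsl4 [tsl5, tsl6, tsl7, tsl8, tsl9, tsl10, tsl11, tsl12, tsl13, tsl14, tsl15, tsl16, tsl17, tsl18, tsl19] (memO csc4)) (nat_lit 0) (nat_lit 6) = true := by decide +kernel
theorem cs_f4 : (Nat.ble csc4.K 25 && Nat.ble (topK [csc5, csc6, csc7, csc8, csc9, csc10, csc11, csc12, csc13, csc14, csc15, csc16, csc17, csc18, csc19]) csc4.K && Nat.beq (csc4.Pt 0) (tsl4.Pt 0) && Nat.beq (ltAll 1782 [tsl3.Pt 0, tsl2.Pt 0, tsl1.Pt 0, tsl0.Pt 0]) 0 && kChk cse_P (rl [nat_lit 10] H18.TE.M.P) csc4.K 1 H18.TE.M.B [tsl3.Pt 0, tsl2.Pt 0, tsl1.Pt 0, tsl0.Pt 0]) = true := by decide +kernel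
theorem csc3_e_0 : allZ (dent csc3 cse_P (nat_lit 1782)) (nat_lit 0) (nat_lit 1) = true := by decide +kernel
theorem csc3_h : 0 < csc3.n ∧ 0 < csc3.K ∧ csc3.Pt 0 < 1782 ∧ csc3.Q (csc3.Pt 0) = 0 := by decide +kernel
theorem tsn16_0 : (Nat.ble tsl3.K 67 && Nat.beq (ltAll 1782 [tsl2.Pt 0, tsl1.Pt 0, tsl0.Pt 0]) 0 && kChk cse_P (rl [nat_lit 10] H18.TE.M.P) tsn16.Kn 1 H18.TE.M.B [tsl2.Pt 0, tsl1.Pt 0, tsl0.Pt 0] && allL (ltAll 1) tsn16.pre && planOK tsh_P (rl [nat_lit 10] H18.TE.M.P) 1 (tsl3.Pt 0) tsn16.plan [tsl3, tsl4, tsl5, tsl6, tsl7, tsl8, tsl9, tsl10, tsl11, tsl12, tsl13, tsl14, tsl15, tsl16, tsl17, tsl18, tsl19]) = true := by decide +kernel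
theorem tsn16_1_0 : allZ (tsn16.ent H18.TE.M.P tsh_P (rl [nat_lit 10] H18.TE.M.P) (rl [nat_lit 10] H18.TE.M.P) cse_P (nat_lit 53) (nat_lit 1) H18.TE.M.B tsl3 [tsl4, tsl5, tsl6, tsl7, tsl8, tsl9, tsl10, tsl11, tsl12, tsl13, tsl14, tsl15, tsl16, tsl17, tsl18, tsl19] (memO csc3)) (nat_lit 0) (nat_lit 8) = true := by decide +kernel
theorem cs_f3 : (Nat.ble csc3.K 25 && Nat.ble (topK [csc4, csc5, csc6, csc7, csc8, csc9, csc10, csc11, csc12, csc13, csc14, csc15, csc16, csc17, csc18, csc19]) csc3.K && Nat.beq (csc3.Pt 0) (tsl3.Pt 0) && Nat.beq (ltAll 1782 [tsl2.Pt 0, tsl1.Pt 0, tsl0.Pt 0]) 0 && kChk cse_P (rl [nat_lit 10] H18.TE.M.P) csc3.K 1 H18.TE.M.B [tsl2.Pt 0, tsl1.Pt 0, tsl0.Pt 0]) = true := by decide +kernel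
theorem csc2_e_0 : allZ (dent csc2 cse_P (nat_lit 1782)) (nat_lit 0) (nat_lit 39) = true := by decide +kernel
theorem csc2_h : 0 < csc2.n ∧ 0 < csc2.K ∧ csc2.Pt 0 < 1782 ∧ csc2.Q (csc2.Pt 0) = 0 := by decide +kernel
theorem tsn17_0 : (Nat.ble tsl2.K 67 && Nat.beq (ltAll 1782 [tsl1.Pt 0, tsl0.Pt 0]) 0 && kChk cse_P (rl [nat_lit 10] H18.TE.M.P) tsn17.Kn 1 H18.TE.M.B [tsl1.Pt 0, tsl0.Pt 0] && allL (ltAll 1) tsn17.pre && planOK tsh_P (rl [nat_lit 10] H18.TE.M.P) 1 (tsl2.Pt 0) tsn17.plan [tsl2, tsl3, tsl4, tsl5, tsl6, tsl7, tsl8, tsl9, tsl10, tsl11, tsl12, tsl13, tsl14, tsl15, tsl16, tsl17, tsl18, tsl19]) = true := by decide +kernel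
theorem tsn17_1_0 : allZ (tsn17.ent H18.TE.M.P tsh_P (rl [nat_lit 10] H18.TE.M.P) (rl [nat_lit 10] H18.TE.M.P) cse_P (nat_lit 53) (nat_lit 1) H18.TE.M.B tsl2 [tsl3, tsl4, tsl5, tsl6, tsl7, tsl8, tsl9, tsl10, tsl11, tsl12, tsl13, tsl14, tsl15, tsl16, tsl17, tsl18, tsl19] (memO csc2)) (nat_lit 0) (nat_lit 80) = true := by decide +kernel
theorem cs_f2 : (Nat.ble csc2.K 25 && Nat.ble (topK [csc3, csc4, csc5, csc6, csc7, csc8, csc9, csc10, csc11, csc12, csc13, csc14, csc15, csc16, csc17, csc18, csc19]) csc2.K && Nat.beq (csc2.Pt 0) (tsl2.Pt 0) && Nat.beq (ltAll 1782 [tsl1.Pt 0, tsl0.Pt 0]) 0 && kChk cse_P (rl [nat_lit 10] H18.TE.M.P) csc2.K 1 H18.TE.M.B [tsl1.Pt 0, tsl0.Pt 0]) = true := by decide +kernel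
theorem csc1_e_0 : allZ (dent csc1 cse_P (nat_lit 1782)) (nat_lit 0) (nat_lit 41) = true := by decide +kernel
theorem csc1_h : 0 < csc1.n ∧ 0 < csc1.K ∧ csc1.Pt 0 < 1782 ∧ csc1.Q (csc1.Pt 0) = 0 := by decide +kernel
theorem tsn18_0 : (Nat.ble tsl1.K 67 && Nat.beq (ltAll 1782 [tsl0.Pt 0]) 0 && kChk cse_P (rl [nat_lit 10] H18.TE.M.P) tsn18.Kn 1 H18.TE.M.B [tsl0.Pt 0] && allL (ltAll 1) tsn18.pre && planOK tsh_P (rl [nat_lit 10] H18.TE.M.P) 1 (tsl1.Pt 0) tsn18.plan [tsl1, tsl2, tsl3, tsl4, tsl5, tsl6, tsl7, tsl8, tsl9, tsl10, tsl11, tsl12, tsl13, tsl14, tsl15, tsl16, tsl17, tsl18, tsl19]) = true := by decide +kernel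
theorem tsn18_1_0 : allZ (tsn18.ent H18.TE.M.P tsh_P (rl [nat_lit 10] H18.TE.M.P) (rl [nat_lit 10] H18.TE.M.P) cse_P (nat_lit 53) (nat_lit 1) H18.TE.M.B tsl1 [tsl2, tsl3, tsl4, tsl5, tsl6, tsl7, tsl8, tsl9, tsl10, tsl11, tsl12, tsl13, tsl14, tsl15, tsl16, tsl17, tsl18, tsl19] (memO csc1)) (nat_lit 0) (nat_lit 84) = true := by decide +kernel
theorem cs_f1 : (Nat.ble csc1.K 25 && Nat.ble (topK [csc2, csc3, csc4, csc5, csc6, csc7, csc8, csc9, csc10, csc11, csc12, csc13, csc14, csc15, csc16, csc17, csc18, csc19]) csc1.K && Nat.beq (csc1.Pt 0) (tsl1.Pt 0) && Nat.beq (ltAll 1782 [tsl0.Pt 0]) 0 && kChk cse_P (rl [nat_lit 10] H18.TE.M.P) csc1.K 1 H18.TE.M.B [tsl0.Pt 0]) = true := by decide +kernel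
theorem csc0_e_0 : allZ (dent csc0 cse_P (nat_lit 1782)) (nat_lit 0) (nat_lit 1023) = true := by decide +kernel
theorem csc0_h : 0 < csc0.n ∧ 0 < csc0.K ∧ csc0.Pt 0 < 1782 ∧ csc0.Q (csc0.Pt 0) = 0 := by decide +kernel
theorem tsn19_0 : (Nat.ble tsl0.K 67 && Nat.beq (ltAll 1782 []) 0 && kChk cse_P (rl [nat_lit 10] H18.TE.M.P) tsn19.Kn 1 H18.TE.M.B [] && allL (ltAll 1) tsn19.pre && planOK tsh_P (rl [nat_lit 10] H18.TE.M.P) 1 (tsl0.Pt 0) tsn19.plan [tsl0, tsl1, tsl2, tsl3, tsl4, tsl5, tsl6, tsl7, tsl8, tsl9, tsl10, tsl11, tsl12, tsl13, tsl14, tsl15, tsl16, tsl17, tsl18, tsl19]) = true := by decide +kernel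
theorem tsn19_1_0 : allZ (tsn19.ent H18.TE.M.P tsh_P (rl [nat_lit 10] H18.TE.M.P) (rl [nat_lit 10] H18.TE.M.P) cse_P (nat_lit 53) (nat_lit 1) H18.TE.M.B tsl0 [tsl1, tsl2, tsl3, tsl4, tsl5, tsl6, tsl7, tsl8, tsl9, tsl10, tsl11, tsl12, tsl13, tsl14, tsl15, tsl16, tsl17, tsl18, tsl19] (memO csc0)) (nat_lit 0) (nat_lit 1782) = true := by decide +kernel
theorem cs_f0 : (Nat.ble csc0.K 25 && Nat.ble (topK [csc1, csc2, csc3, csc4, csc5, csc6, csc7, csc8, csc9, csc10, csc11, csc12, csc13, csc14, csc15, csc16, csc17, csc18, csc19]) csc0.K && Nat.beq (csc0.Pt 0) (tsl0.Pt 0) && Nat.beq (ltAll 1782 []) 0 && kChk cse_P (rl [nat_lit 10] H18.TE.M.P) csc0.K 1 H18.TE.M.B []) = true := by decide +kernel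
theorem cs_c : chainCard [csc0, csc1, csc2, csc3, csc4, csc5, csc6, csc7, csc8, csc9, csc10, csc11, csc12, csc13, csc14, csc15, csc16, csc17, csc18, csc19] = 10823317585920 ∧ topK [csc0, csc1, csc2, csc3, csc4, csc5, csc6, csc7, csc8, csc9, csc10, csc11, csc12, csc13, csc14, csc15, csc16, csc17, csc18, csc19] = 25 := by decide +kernel
theorem dle_lt : allL (ltAll 6) dle_W = true := by decide +kernel
theorem dll0_e_0 : allZ (dent dll0 dle_P (nat_lit 1782)) (nat_lit 0) (nat_lit 83) = true := by decide +kernel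
theorem dll0_h : 0 < dll0.n ∧ 0 < dll0.K ∧ dll0.Pt 0 < 1782 ∧ dll0.Q (dll0.Pt 0) = 0 := by decide +kernel
theorem dll1_e_0 : allZ (dent dll1 dle_P (nat_lit 1782)) (nat_lit 0) (nat_lit 79) = true := by decide +kernel
theorem dll1_h : 0 < dll1.n ∧ 0 < dll1.K ∧ dll1.Pt 0 < 1782 ∧ dll1.Q (dll1.Pt 0) = 0 := by decide +kernel
theorem dll2_e_0 : allZ (dent dll2 dle_P (nat_lit 1782)) (nat_lit 0) (nat_lit 63) = true := by decide +kernel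
theorem dll2_h : 0 < dll2.n ∧ 0 < dll2.K ∧ dll2.Pt 0 < 1782 ∧ dll2.Q (dll2.Pt 0) = 0 := by decide +kernel
theorem dll3_e_0 : allZ (dent dll3 dle_P (nat_lit 1782)) (nat_lit 0) (nat_lit 127) = true := by decide +kernel
theorem dll3_h : 0 < dll3.n ∧ 0 < dll3.K ∧ dll3.Pt 0 < 1782 ∧ dll3.Q (dll3.Pt 0) = 0 := by decide +kernel
theorem dll4_e_0 : allZ (dent dll4 dle_P (nat_lit 1782)) (nat_lit 0) (nat_lit 5) = true := by decide +kernel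
theorem dll4_h : 0 < dll4.n ∧ 0 < dll4.K ∧ dll4.Pt 0 < 1782 ∧ dll4.Q (dll4.Pt 0) = 0 := by decide +kernel
theorem dll5_e_0 : allZ (dent dll5 dle_P (nat_lit 1782)) (nat_lit 0) (nat_lit 1) = true := by decide +kernel
theorem dll5_h : 0 < dll5.n ∧ 0 < dll5.K ∧ dll5.Pt 0 < 1782 ∧ dll5.Q (dll5.Pt 0) = 0 := by decide +kernel
theorem dll6_e_0 : allZ (dent dll6 dle_P (nat_lit 1782)) (nat_lit 0) (nat_lit 1) = true := by decide +kernel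
theorem dll6_h : 0 < dll6.n ∧ 0 < dll6.K ∧ dll6.Pt 0 < 1782 ∧ dll6.Q (dll6.Pt 0) = 0 := by decide +kernel
theorem dll7_e_0 : allZ (dent dll7 dle_P (nat_lit 1782)) (nat_lit 0) (nat_lit 1) = true := by decide +kernel
theorem dll7_h : 0 < dll7.n ∧ 0 < dll7.K ∧ dll7.Pt 0 < 1782 ∧ dll7.Q (dll7.Pt 0) = 0 := by decide +kernel
theorem dll8_e_0 : allZ (dent dll8 dle_P (nat_lit 1782)) (nat_lit 0) (nat_lit 1) = true := by decide +kernel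
theorem dll8_h : 0 < dll8.n ∧ 0 < dll8.K ∧ dll8.Pt 0 < 1782 ∧ dll8.Q (dll8.Pt 0) = 0 := by decide +kernel
theorem dll9_e_0 : allZ (dent dll9 dle_P (nat_lit 1782)) (nat_lit 0) (nat_lit 1) = true := by decide +kernel
theorem dll9_h : 0 < dll9.n ∧ 0 < dll9.K ∧ dll9.Pt 0 < 1782 ∧ dll9.Q (dll9.Pt 0) = 0 := by decide +kernel
theorem dll10_e_0 : allZ (dent dll10 dle_P (nat_lit 1782)) (nat_lit 0) (nat_lit 1) = true := by decide +kernel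
theorem dll10_h : 0 < dll10.n ∧ 0 < dll10.K ∧ dll10.Pt 0 < 1782 ∧ dll10.Q (dll10.Pt 0) = 0 := by decide +kernel
theorem dll11_e_0 : allZ (dent dll11 dle_P (nat_lit 1782)) (nat_lit 0) (nat_lit 1) = true := by decide +kernel
theorem dll11_h : 0 < dll11.n ∧ 0 < dll11.K ∧ dll11.Pt 0 < 1782 ∧ dll11.Q (dll11.Pt 0) = 0 := by decide +kernel
theorem dll12_e_0 : allZ (dent dll12 dle_P (nat_lit 1782)) (nat_lit 0) (nat_lit 1) = true := by decide +kernel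
theorem dll12_h : 0 < dll12.n ∧ 0 < dll12.K ∧ dll12.Pt 0 < 1782 ∧ dll12.Q (dll12.Pt 0) = 0 := by decide +kernel
theorem dll13_e_0 : allZ (dent dll13 dle_P (nat_lit 1782)) (nat_lit 0) (nat_lit 1) = true := by decide +kernel
theorem dll13_h : 0 < dll13.n ∧ 0 < dll13.K ∧ dll13.Pt 0 < 1782 ∧ dll13.Q (dll13.Pt 0) = 0 := by decide +kernel
theorem dll14_e_0 : allZ (dent dll14 dle_P (nat_lit 1782)) (nat_lit 0) (nat_lit 1) = true := by decide +kernel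
theorem dll14_h : 0 < dll14.n ∧ 0 < dll14.K ∧ dll14.Pt 0 < 1782 ∧ dll14.Q (dll14.Pt 0) = 0 := by decide +kernel
theorem dll15_e_0 : allZ (dent dll15 dle_P (nat_lit 1782)) (nat_lit 0) (nat_lit 1) = true := by decide +kernel
theorem dll15_h : 0 < dll15.n ∧ 0 < dll15.K ∧ dll15.Pt 0 < 1782 ∧ dll15.Q (dll15.Pt 0) = 0 := by decide +kernel
theorem dll16_e_0 : allZ (dent dll16 dle_P (nat_lit 1782)) (nat_lit 0) (nat_lit 1) = true := by decide +kernel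
theorem dll16_h : 0 < dll16.n ∧ 0 < dll16.K ∧ dll16.Pt 0 < 1782 ∧ dll16.Q (dll16.Pt 0) = 0 := by decide +kernel
theorem dll17_e_0 : allZ (dent dll17 dle_P (nat_lit 1782)) (nat_lit 0) (nat_lit 1) = true := by decide +kernel
theorem dll17_h : 0 < dll17.n ∧ 0 < dll17.K ∧ dll17.Pt 0 < 1782 ∧ dll17.Q (dll17.Pt 0) = 0 := by decide +kernel
theorem dll18_e_0 : allZ (dent dll18 dle_P (nat_lit 1782)) (nat_lit 0) (nat_lit 1) = true := by decide +kernel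
theorem dll18_h : 0 < dll18.n ∧ 0 < dll18.K ∧ dll18.Pt 0 < 1782 ∧ dll18.Q (dll18.Pt 0) = 0 := by decide +kernel
theorem dl_f18 : (Nat.ble dll18.K 23 && Nat.ble (topK []) dll18.K && fixLetters dle_P (topK []) (dll18.Pt 0)) = true := by decide +kernel
theorem dl_f17 : (Nat.ble dll17.K 23 && Nat.ble (topK [dll18]) dll17.K && fixLetters dle_P (topK [dll18]) (dll17.Pt 0)) = true := by decide +kernel
theorem dl_f16 : (Nat.ble dll16.K 23 && Nat.ble (topK [dll17, dll18]) dll16.K && fixLetters dle_P (topK [dll17, dll18]) (dll16.Pt 0)) = true := by decide +kernel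
theorem dl_f15 : (Nat.ble dll15.K 23 && Nat.ble (topK [dll16, dll17, dll18]) dll15.K && fixLetters dle_P (topK [dll16, dll17, dll18]) (dll15.Pt 0)) = true := by decide +kernel
theorem dl_f14 : (Nat.ble dll14.K 23 && Nat.ble (topK [dll15, dll16, dll17, dll18]) dll14.K && fixLetters dle_P (topK [dll15, dll16, dll17, dll18]) (dll14.Pt 0)) = true := by decide +kernel
theorem dl_f13 : (Nat.ble dll13.K 23 && Nat.ble (topK [dll14, dll15, dll16, dll17, dll18]) dll13.K && fixLetters dle_P (topK [dll14, dll15, dll16, dll17, dll18]) (dll13.Pt 0)) = true := by decide +kernel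
theorem dl_f12 : (Nat.ble dll12.K 23 && Nat.ble (topK [dll13, dll14, dll15, dll16, dll17, dll18]) dll12.K && fixLetters dle_P (topK [dll13, dll14, dll15, dll16, dll17, dll18]) (dll12.Pt 0)) = true := by decide +kernel
theorem dl_f11 : (Nat.ble dll11.K 23 && Nat.ble (topK [dll12, dll13, dll14, dll15, dll16, dll17, dll18]) dll11.K && fixLetters dle_P (topK [dll12, dll13, dll14, dll15, dll16, dll17, dll18]) (dll11.Pt 0)) = true := by decide +kernel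
theorem dl_f10 : (Nat.ble dll10.K 23 && Nat.ble (topK [dll11, dll12, dll13, dll14, dll15, dll16, dll17, dll18]) dll10.K && fixLetters dle_P (topK [dll11, dll12, dll13, dll14, dll15, dll16, dll17, dll18]) (dll10.Pt 0)) = true := by decide +kernel
theorem dl_f9 : (Nat.ble dll9.K 23 && Nat.ble (topK [dll10, dll11, dll12, dll13, dll14, dll15, dll16, dll17, dll18]) dll9.K && fixLetters dle_P (topK [dll10, dll11, dll12, dll13, dll14, dll15, dll16, dll17, dll18]) (dll9.Pt 0)) = true := by decide +kernel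
theorem dl_f8 : (Nat.ble dll8.K 23 && Nat.ble (topK [dll9, dll10, dll11, dll12, dll13, dll14, dll15, dll16, dll17, dll18]) dll8.K && fixLetters dle_P (topK [dll9, dll10, dll11, dll12, dll13, dll14, dll15, dll16, dll17, dll18]) (dll8.Pt 0)) = true := by decide +kernel
theorem dl_f7 : (Nat.ble dll7.K 23 && Nat.ble (topK [dll8, dll9, dll10, dll11, dll12, dll13, dll14, dll15, dll16, dll17, dll18]) dll7.K && fixLetters dle_P (topK [dll8, dll9, dll10, dll11, dll12, dll13, dll14, dll15, dll16, dll17, dll18]) (dll7.Pt 0)) = true := by decide +kernel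
theorem dl_f6 : (Nat.ble dll6.K 23 && Nat.ble (topK [dll7, dll8, dll9, dll10, dll11, dll12, dll13, dll14, dll15, dll16, dll17, dll18]) dll6.K && fixLetters dle_P (topK [dll7, dll8, dll9, dll10, dll11, dll12, dll13, dll14, dll15, dll16, dll17, dll18]) (dll6.Pt 0)) = true := by decide +kernel
theorem dl_f5 : (Nat.ble dll5.K 23 && Nat.ble (topK [dll6, dll7, dll8, dll9, dll10, dll11, dll12, dll13, dll14, dll15, dll16, dll17, dll18]) dll5.K && fixLetters dle_P (topK [dll6, dll7, dll8, dll9, dll10, dll11, dll12, dll13, dll14, dll15, dll16, dll17, dll18]) (dll5.Pt 0)) = true := by decide +kernel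
theorem dl_f4 : (Nat.ble dll4.K 23 && Nat.ble (topK [dll5, dll6, dll7, dll8, dll9, dll10, dll11, dll12, dll13, dll14, dll15, dll16, dll17, dll18]) dll4.K && fixLetters dle_P (topK [dll5, dll6, dll7, dll8, dll9, dll10, dll11, dll12, dll13, dll14, dll15, dll16, dll17, dll18]) (dll4.Pt 0)) = true := by decide +kernel
theorem dl_f3 : (Nat.ble dll3.K 23 && Nat.ble (topK [dll4, dll5, dll6, dll7, dll8, dll9, dll10, dll11, dll12, dll13, dll14, dll15, dll16, dll17, dll18]) dll3.K && fixLetters dle_P (topK [dll4, dll5, dll6, dll7, dll8, dll9, dll10, dll11, dll12, dll13, dll14, dll15, dll16, dll17, dll18]) (dll3.Pt 0)) = true := by decide +kernel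
theorem dl_f2 : (Nat.ble dll2.K 23 && Nat.ble (topK [dll3, dll4, dll5, dll6, dll7, dll8, dll9, dll10, dll11, dll12, dll13, dll14, dll15, dll16, dll17, dll18]) dll2.K && fixLetters dle_P (topK [dll3, dll4, dll5, dll6, dll7, dll8, dll9, dll10, dll11, dll12, dll13, dll14, dll15, dll16, dll17, dll18]) (dll2.Pt 0)) = true := by decide +kernel
theorem dl_f1 : (Nat.ble dll1.K 23 && Nat.ble (topK [dll2, dll3, dll4, dll5, dll6, dll7, dll8, dll9, dll10, dll11, dll12, dll13, dll14, dll15, dll16, dll17, dll18]) dll1.K && fixLetters dle_P (topK [dll2, dll3, dll4, dll5, dll6, dll7, dll8, dll9, dll10, dll11, dll12, dll13, dll14, dll15, dll16, dll17, dll18]) (dll1.Pt 0)) = true := by decide +kernel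
theorem dl_f0 : (Nat.ble dll0.K 23 && Nat.ble (topK [dll1, dll2, dll3, dll4, dll5, dll6, dll7, dll8, dll9, dll10, dll11, dll12, dll13, dll14, dll15, dll16, dll17, dll18]) dll0.K && fixLetters dle_P (topK [dll1, dll2, dll3, dll4, dll5, dll6, dll7, dll8, dll9, dll10, dll11, dll12, dll13, dll14, dll15, dll16, dll17, dll18]) (dll0.Pt 0)) = true := by decide +kernel
theorem dl_c : chainCard [dll0, dll1, dll2, dll3, dll4, dll5, dll6, dll7, dll8, dll9, dll10, dll11, dll12, dll13, dll14, dll15, dll16, dll17, dll18] = 5411658792960 := by decide +kernel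
theorem y3_lt : allL (ltAll 53) y3_W = true := by decide +kernel
theorem w3e_lt : allL (ltAll 10) w3e_W = true := by decide +kernel
theorem w3l0_e_0 : allZ (dent w3l0 w3e_P (nat_lit 1782)) (nat_lit 0) (nat_lit 1) = true := by decide +kernel
theorem w3l0_h : 0 < w3l0.n ∧ 0 < w3l0.K ∧ w3l0.Pt 0 < 1782 ∧ w3l0.Q (w3l0.Pt 0) = 0 := by decide +kernel
theorem w3l1_e_0 : allZ (dent w3l1 w3e_P (nat_lit 1782)) (nat_lit 0) (nat_lit 1) = true := by decide +kernel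
theorem w3l1_h : 0 < w3l1.n ∧ 0 < w3l1.K ∧ w3l1.Pt 0 < 1782 ∧ w3l1.Q (w3l1.Pt 0) = 0 := by decide +kernel
theorem w3l2_e_0 : allZ (dent w3l2 w3e_P (nat_lit 1782)) (nat_lit 0) (nat_lit 1) = true := by decide +kernel
theorem w3l2_h : 0 < w3l2.n ∧ 0 < w3l2.K ∧ w3l2.Pt 0 < 1782 ∧ w3l2.Q (w3l2.Pt 0) = 0 := by decide +kernel
theorem w3l3_e_0 : allZ (dent w3l3 w3e_P (nat_lit 1782)) (nat_lit 0) (nat_lit 1) = true := by decide +kernel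
theorem w3l3_h : 0 < w3l3.n ∧ 0 < w3l3.K ∧ w3l3.Pt 0 < 1782 ∧ w3l3.Q (w3l3.Pt 0) = 0 := by decide +kernel
theorem w3l4_e_0 : allZ (dent w3l4 w3e_P (nat_lit 1782)) (nat_lit 0) (nat_lit 1) = true := by decide +kernel
theorem w3l4_h : 0 < w3l4.n ∧ 0 < w3l4.K ∧ w3l4.Pt 0 < 1782 ∧ w3l4.Q (w3l4.Pt 0) = 0 := by decide +kernel
theorem w3l5_e_0 : allZ (dent w3l5 w3e_P (nat_lit 1782)) (nat_lit 0) (nat_lit 1) = true := by decide +kernel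
theorem w3l5_h : 0 < w3l5.n ∧ 0 < w3l5.K ∧ w3l5.Pt 0 < 1782 ∧ w3l5.Q (w3l5.Pt 0) = 0 := by decide +kernel
theorem w3l6_e_0 : allZ (dent w3l6 w3e_P (nat_lit 1782)) (nat_lit 0) (nat_lit 1) = true := by decide +kernel
theorem w3l6_h : 0 < w3l6.n ∧ 0 < w3l6.K ∧ w3l6.Pt 0 < 1782 ∧ w3l6.Q (w3l6.Pt 0) = 0 := by decide +kernel
theorem w3l7_e_0 : allZ (dent w3l7 w3e_P (nat_lit 1782)) (nat_lit 0) (nat_lit 1) = true := by decide +kernel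
theorem w3l7_h : 0 < w3l7.n ∧ 0 < w3l7.K ∧ w3l7.Pt 0 < 1782 ∧ w3l7.Q (w3l7.Pt 0) = 0 := by decide +kernel
theorem w3l8_e_0 : allZ (dent w3l8 w3e_P (nat_lit 1782)) (nat_lit 0) (nat_lit 1) = true := by decide +kernel
theorem w3l8_h : 0 < w3l8.n ∧ 0 < w3l8.K ∧ w3l8.Pt 0 < 1782 ∧ w3l8.Q (w3l8.Pt 0) = 0 := by decide +kernel
theorem w3l9_e_0 : allZ (dent w3l9 w3e_P (nat_lit 1782)) (nat_lit 0) (nat_lit 1) = true := by decide +kernel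
theorem w3l9_h : 0 < w3l9.n ∧ 0 < w3l9.K ∧ w3l9.Pt 0 < 1782 ∧ w3l9.Q (w3l9.Pt 0) = 0 := by decide +kernel
theorem w3_f9 : (Nat.ble w3l9.K 10 && Nat.ble (topK []) w3l9.K && fixLetters w3e_P (topK []) (w3l9.Pt 0)) = true := by decide +kernel
theorem w3_f8 : (Nat.ble w3l8.K 10 && Nat.ble (topK [w3l9]) w3l8.K && fixLetters w3e_P (topK [w3l9]) (w3l8.Pt 0)) = true := by decide +kernel
theorem w3_f7 : (Nat.ble w3l7.K 10 && Nat.ble (topK [w3l8, w3l9]) w3l7.K && fixLetters w3e_P (topK [w3l8, w3l9]) (w3l7.Pt 0)) = true := by decide +kernel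
theorem w3_f6 : (Nat.ble w3l6.K 10 && Nat.ble (topK [w3l7, w3l8, w3l9]) w3l6.K && fixLetters w3e_P (topK [w3l7, w3l8, w3l9]) (w3l6.Pt 0)) = true := by decide +kernel
theorem w3_f5 : (Nat.ble w3l5.K 10 && Nat.ble (topK [w3l6, w3l7, w3l8, w3l9]) w3l5.K && fixLetters w3e_P (topK [w3l6, w3l7, w3l8, w3l9]) (w3l5.Pt 0)) = true := by decide +kernel
theorem w3_f4 : (Nat.ble w3l4.K 10 && Nat.ble (topK [w3l5, w3l6, w3l7, w3l8, w3l9]) w3l4.K && fixLetters w3e_P (topK [w3l5, w3l6, w3l7, w3l8, w3l9]) (w3l4.Pt 0)) = true := by decide +kernel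
theorem w3_f3 : (Nat.ble w3l3.K 10 && Nat.ble (topK [w3l4, w3l5, w3l6, w3l7, w3l8, w3l9]) w3l3.K && fixLetters w3e_P (topK [w3l4, w3l5, w3l6, w3l7, w3l8, w3l9]) (w3l3.Pt 0)) = true := by decide +kernel
theorem w3_f2 : (Nat.ble w3l2.K 10 && Nat.ble (topK [w3l3, w3l4, w3l5, w3l6, w3l7, w3l8, w3l9]) w3l2.K && fixLetters w3e_P (topK [w3l3, w3l4, w3l5, w3l6, w3l7, w3l8, w3l9]) (w3l2.Pt 0)) = true := by decide +kernel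
theorem w3_f1 : (Nat.ble w3l1.K 10 && Nat.ble (topK [w3l2, w3l3, w3l4, w3l5, w3l6, w3l7, w3l8, w3l9]) w3l1.K && fixLetters w3e_P (topK [w3l2, w3l3, w3l4, w3l5, w3l6, w3l7, w3l8, w3l9]) (w3l1.Pt 0)) = true := by decide +kernel
theorem w3_f0 : (Nat.ble w3l0.K 10 && Nat.ble (topK [w3l1, w3l2, w3l3, w3l4, w3l5, w3l6, w3l7, w3l8, w3l9]) w3l0.K && fixLetters w3e_P (topK [w3l1, w3l2, w3l3, w3l4, w3l5, w3l6, w3l7, w3l8, w3l9]) (w3l0.Pt 0)) = true := by decide +kernel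
theorem w3_c : chainCard [w3l0, w3l1, w3l2, w3l3, w3l4, w3l5, w3l6, w3l7, w3l8, w3l9] = 1024 := by decide +kernel
theorem n1_k : 0 < 1782 ∧ ltAll 53 [nat_lit 10] = 0 ∧ ltAll 53 [] = 0 ∧ apW H18.TE.M.P [nat_lit 10] 0 ≠ apW H18.TE.M.P [] 0 := by decide +kernel
theorem n2_k : 0 < 1782 ∧ ltAll 53 [nat_lit 11] = 0 ∧ ltAll 53 [nat_lit 10] = 0 ∧ apW H18.TE.M.P [nat_lit 11] 0 ≠ apW H18.TE.M.P [nat_lit 10] 0 := by decide +kernel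
theorem n3_k : 83 < 1782 ∧ ltAll 53 [nat_lit 45] = 0 ∧ ltAll 53 [] = 0 ∧ apW H18.TE.M.P [nat_lit 45] 83 ≠ apW H18.TE.M.P [] 83 := by decide +kernel
theorem n4_k : 0 < 1782 ∧ ltAll 53 [nat_lit 38, nat_lit 11] = 0 ∧ ltAll 53 [nat_lit 11, nat_lit 38] = 0 ∧ apW H18.TE.M.P [nat_lit 38, nat_lit 11] 0 ≠ apW H18.TE.M.P [nat_lit 11, nat_lit 38] 0 := by decide +kernel

end H18.TE.M
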