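import Cfsg.Agent.H18.TEg.C.D0

/-! Generated by tools/h0/tr.py. -/

set_option maxRecDepth 100000
set_option maxHeartbeats 0

namespace H18.TE.M
open H16 H0.TR
open scoped commutatorElement

theorem t1h_lt : allL (ltAll 53) t1h_W = true := by decide +kernel
theorem t1l0_e_0 : allZ (dent t1l0 t1h_P (nat_lit 1782)) (nat_lit 0) (nat_lit 1781) = true := by decide +kernel
theorem t1l0_h : 0 < t1l0.n ∧ 0 < t1l0.K ∧ t1l0.Pt 0 < 1782 ∧ t1l0.Q (t1l0.Pt 0) = 0 := by decide +kernel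
theorem t1l1_e_0 : allZ (dent t1l1 t1h_P (nat_lit 1782)) (nat_lit 0) (nat_lit 83) = true := by decide +kernel
theorem t1l1_h : 0 < t1l1.n ∧ 0 < t1l1.K ∧ t1l1.Pt 0 < 1782 ∧ t1l1.Q (t1l1.Pt 0) = 0 := by decide +kernel
theorem t1l2_e_0 : allZ (dent t1l2 t1h_P (nat_lit 1782)) (nat_lit 0) (nat_lit 79) = true := by decide +kernel
theorem t1l2_h : 0 < t1l2.n ∧ 0 < t1l2.K ∧ t1l2.Pt 0 < 1782 ∧ t1l2.Q (t1l2.Pt 0) = 0 := by decide +kernel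
theorem t1l3_e_0 : allZ (dent t1l3 t1h_P (nat_lit 1782)) (nat_lit 0) (nat_lit 7) = true := by decide +kernel
theorem t1l3_h : 0 < t1l3.n ∧ 0 < t1l3.K ∧ t1l3.Pt 0 < 1782 ∧ t1l3.Q (t1l3.Pt 0) = 0 := by decide +kernel
theorem t1l4_e_0 : allZ (dent t1l4 t1h_P (nat_lit 1782)) (nat_lit 0) (nat_lit 5) = true := by decide +kernel
theorem t1l4_h : 0 < t1l4.n ∧ 0 < t1l4.K ∧ t1l4.Pt 0 < 1782 ∧ t1l4.Q (t1l4.Pt 0) = 0 := by decide +kernel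
theorem t1l5_e_0 : allZ (dent t1l5 t1h_P (nat_lit 1782)) (nat_lit 0) (nat_lit 1) = true := by decide +kernel
theorem t1l5_h : 0 < t1l5.n ∧ 0 < t1l5.K ∧ t1l5.Pt 0 < 1782 ∧ t1l5.Q (t1l5.Pt 0) = 0 := by decide +kernel
theorem t1l6_e_0 : allZ (dent t1l6 t1h_P (nat_lit 1782)) (nat_lit 0) (nat_lit 63) = true := by decide +kernel
theorem t1l6_h : 0 < t1l6.n ∧ 0 < t1l6.K ∧ t1l6.Pt 0 < 1782 ∧ t1l6.Q (t1l6.Pt 0) = 0 := by decide +kernel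
theorem t1l7_e_0 : allZ (dent t1l7 t1h_P (nat_lit 1782)) (nat_lit 0) (nat_lit 7) = true := by decide +kernel
theorem t1l7_h : 0 < t1l7.n ∧ 0 < t1l7.K ∧ t1l7.Pt 0 < 1782 ∧ t1l7.Q (t1l7.Pt 0) = 0 := by decide +kernel
theorem t1l8_e_0 : allZ (dent t1l8 t1h_P (nat_lit 1782)) (nat_lit 0) (nat_lit 1) = true := by decide +kernel
theorem t1l8_h : 0 < t1l8.n ∧ 0 < t1l8.K ∧ t1l8.Pt 0 < 1782 ∧ t1l8.Q (t1l8.Pt 0) = 0 := by decide +kernel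
theorem t1l9_e_0 : allZ (dent t1l9 t1h_P (nat_lit 1782)) (nat_lit 0) (nat_lit 7) = true := by decide +kernel
theorem t1l9_h : 0 < t1l9.n ∧ 0 < t1l9.K ∧ t1l9.Pt 0 < 1782 ∧ t1l9.Q (t1l9.Pt 0) = 0 := by decide +kernel
theorem t1l10_e_0 : allZ (dent t1l10 t1h_P (nat_lit 1782)) (nat_lit 0) (nat_lit 1) = true := by decide +kernel
theorem t1l10_h : 0 < t1l10.n ∧ 0 < t1l10.K ∧ t1l10.Pt 0 < 1782 ∧ t1l10.Q (t1l10.Pt 0) = 0 := by decide +kernel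
theorem t1l11_e_0 : allZ (dent t1l11 t1h_P (nat_lit 1782)) (nat_lit 0) (nat_lit 1) = true := by decide +kernel
theorem t1l11_h : 0 < t1l11.n ∧ 0 < t1l11.K ∧ t1l11.Pt 0 < 1782 ∧ t1l11.Q (t1l11.Pt 0) = 0 := by decide +kernel
theorem t1l12_e_0 : allZ (dent t1l12 t1h_P (nat_lit 1782)) (nat_lit 0) (nat_lit 1) = true := by decide +kernel
theorem t1l12_h : 0 < t1l12.n ∧ 0 < t1l12.K ∧ t1l12.Pt 0 < 1782 ∧ t1l12.Q (t1l12.Pt 0) = 0 := by decide +kernel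
theorem t1l13_e_0 : allZ (dent t1l13 t1h_P (nat_lit 1782)) (nat_lit 0) (nat_lit 1) = true := by decide +kernel
theorem t1l13_h : 0 < t1l13.n ∧ 0 < t1l13.K ∧ t1l13.Pt 0 < 1782 ∧ t1l13.Q (t1l13.Pt 0) = 0 := by decide +kernel
theorem t1l14_e_0 : allZ (dent t1l14 t1h_P (nat_lit 1782)) (nat_lit 0) (nat_lit 1) = true := by decide +kernel
theorem t1l14_h : 0 < t1l14.n ∧ 0 < t1l14.K ∧ t1l14.Pt 0 < 1782 ∧ t1l14.Q (t1l14.Pt 0) = 0 := by decide +kernel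
theorem t1l15_e_0 : allZ (dent t1l15 t1h_P (nat_lit 1782)) (nat_lit 0) (nat_lit 1) = true := by decide +kernel
theorem t1l15_h : 0 < t1l15.n ∧ 0 < t1l15.K ∧ t1l15.Pt 0 < 1782 ∧ t1l15.Q (t1l15.Pt 0) = 0 := by decide +kernel
theorem t1l16_e_0 : allZ (dent t1l16 t1h_P (nat_lit 1782)) (nat_lit 0) (nat_lit 1) = true := by decide +kernel
theorem t1l16_h : 0 < t1l16.n ∧ 0 < t1l16.K ∧ t1l16.Pt 0 < 1782 ∧ t1l16.Q (t1l16.Pt 0) = 0 := by decide +kernel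
theorem t1l17_e_0 : allZ (dent t1l17 t1h_P (nat_lit 1782)) (nat_lit 0) (nat_lit 1) = true := by decide +kernel
theorem t1l17_h : 0 < t1l17.n ∧ 0 < t1l17.K ∧ t1l17.Pt 0 < 1782 ∧ t1l17.Q (t1l17.Pt 0) = 0 := by decide +kernel
theorem t1l18_e_0 : allZ (dent t1l18 t1h_P (nat_lit 1782)) (nat_lit 0) (nat_lit 1) = true := by decide +kernel
theorem t1l18_h : 0 < t1l18.n ∧ 0 < t1l18.K ∧ t1l18.Pt 0 < 1782 ∧ t1l18.Q (t1l18.Pt 0) = 0 := by decide +kernel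
theorem t1l19_e_0 : allZ (dent t1l19 t1h_P (nat_lit 1782)) (nat_lit 0) (nat_lit 1) = true := by decide +kernel
theorem t1l19_h : 0 < t1l19.n ∧ 0 < t1l19.K ∧ t1l19.Pt 0 < 1782 ∧ t1l19.Q (t1l19.Pt 0) = 0 := by decide +kernel
theorem t1_f19 : (Nat.ble t1l19.K 70 && Nat.ble (topK []) t1l19.K && fixLetters t1h_P (topK []) (t1l19.Pt 0)) = true := by decide +kernel
theorem t1_f18 : (Nat.ble t1l18.K 70 && Nat.ble (topK [t1l19]) t1l18.K && fixLetters t1h_P (topK [t1l19]) (t1l18.Pt 0)) = true := by decide +kernel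
theorem t1_f17 : (Nat.ble t1l17.K 70 && Nat.ble (topK [t1l18, t1l19]) t1l17.K && fixLetters t1h_P (topK [t1l18, t1l19]) (t1l17.Pt 0)) = true := by decide +kernel
theorem t1_f16 : (Nat.ble t1l16.K 70 && Nat.ble (topK [t1l17, t1l18, t1l19]) t1l16.K && fixLetters t1h_P (topK [t1l17, t1l18, t1l19]) (t1l16.Pt 0)) = true := by decide +kernel
theorem t1_f15 : (Nat.ble t1l15.K 70 && Nat.ble (topK [t1l16, t1l17, t1l18, t1l19]) t1l15.K && fixLetters t1h_P (topK [t1l16, t1l17, t1l18, t1l19]) (t1l15.Pt 0)) = true := by decide +kernel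
theorem t1_f14 : (Nat.ble t1l14.K 70 && Nat.ble (topK [t1l15, t1l16, t1l17, t1l18, t1l19]) t1l14.K && fixLetters t1h_P (topK [t1l15, t1l16, t1l17, t1l18, t1l19]) (t1l14.Pt 0)) = true := by decide +kernel
theorem t1_f13 : (Nat.ble t1l13.K 70 && Nat.ble (topK [t1l14, t1l15, t1l16, t1l17, t1l18, t1l19]) t1l13.K && fixLetters t1h_P (topK [t1l14, t1l15, t1l16, t1l17, t1l18, t1l19]) (t1l13.Pt 0)) = true := by decide +kernel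
theorem t1_f12 : (Nat.ble t1l12.K 70 && Nat.ble (topK [t1l13, t1l14, t1l15, t1l16, t1l17, t1l18, t1l19]) t1l12.K && fixLetters t1h_P (topK [t1l13, t1l14, t1l15, t1l16, t1l17, t1l18, t1l19]) (t1l12.Pt 0)) = true := by decide +kernel
theorem t1_f11 : (Nat.ble t1l11.K 70 && Nat.ble (topK [t1l12, t1l13, t1l14, t1l15, t1l16, t1l17, t1l18, t1l19]) t1l11.K && fixLetters t1h_P (topK [t1l12, t1l13, t1l14, t1l15, t1l16, t1l17, t1l18, t1l19]) (t1l11.Pt 0)) = true := by decide +kernel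
theorem t1_f10 : (Nat.ble t1l10.K 70 && Nat.ble (topK [t1l11, t1l12, t1l13, t1l14, t1l15, t1l16, t1l17, t1l18, t1l19]) t1l10.K && fixLetters t1h_P (topK [t1l11, t1l12, t1l13, t1l14, t1l15, t1l16, t1l17, t1l18, t1l19]) (t1l10.Pt 0)) = true := by decide +kernel
theorem t1_f9 : (Nat.ble t1l9.K 70 && Nat.ble (topK [t1l10, t1l11, t1l12, t1l13, t1l14, t1l15, t1l16, t1l17, t1l18, t1l19]) t1l9.K && fixLetters t1h_P (topK [t1l10, t1l11, t1l12, t1l13, t1l14, t1l15, t1l16, t1l17, t1l18, t1l19]) (t1l9.Pt 0)) = true := by decide +kernel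
theorem t1_f8 : (Nat.ble t1l8.K 70 && Nat.ble (topK [t1l9, t1l10, t1l11, t1l12, t1l13, t1l14, t1l15, t1l16, t1l17, t1l18, t1l19]) t1l8.K && fixLetters t1h_P (topK [t1l9, t1l10, t1l11, t1l12, t1l13, t1l14, t1l15, t1l16, t1l17, t1l18, t1l19]) (t1l8.Pt 0)) = true := by decide +kernel
theorem t1_f7 : (Nat.ble t1l7.K 70 && Nat.ble (topK [t1l8, t1l9, t1l10, t1l11, t1l12, t1l13, t1l14, t1l15, t1l16, t1l17, t1l18, t1l19]) t1l7.K && fixLetters t1h_P (topK [t1l8, t1l9, t1l10, t1l11, t1l12, t1l13, t1l14, t1l15, t1l16, t1l17, t1l18, t1l19]) (t1l7.Pt 0)) = true := by decide +kernel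
theorem t1_f6 : (Nat.ble t1l6.K 70 && Nat.ble (topK [t1l7, t1l8, t1l9, t1l10, t1l11, t1l12, t1l13, t1l14, t1l15, t1l16, t1l17, t1l18, t1l19]) t1l6.K && fixLetters t1h_P (topK [t1l7, t1l8, t1l9, t1l10, t1l11, t1l12, t1l13, t1l14, t1l15, t1l16, t1l17, t1l18, t1l19]) (t1l6.Pt 0)) = true := by decide +kernel
theorem t1_f5 : (Nat.ble t1l5.K 70 && Nat.ble (topK [t1l6, t1l7, t1l8, t1l9, t1l10, t1l11, t1l12, t1l13, t1l14, t1l15, t1l16, t1l17, t1l18, t1l19]) t1l5.K && fixLetters t1h_P (topK [t1l6, t1l7, t1l8, t1l9, t1l10, t1l11, t1l12, t1l13, t1l14, t1l15, t1l16, t1l17, t1l18, t1l19]) (t1l5.Pt 0)) = true := by decide +kernel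
theorem t1_f4 : (Nat.ble t1l4.K 70 && Nat.ble (topK [t1l5, t1l6, t1l7, t1l8, t1l9, t1l10, t1l11, t1l12, t1l13, t1l14, t1l15, t1l16, t1l17, t1l18, t1l19]) t1l4.K && fixLetters t1h_P (topK [t1l5, t1l6, t1l7, t1l8, t1l9, t1l10, t1l11, t1l12, t1l13, t1l14, t1l15, t1l16, t1l17, t1l18, t1l19]) (t1l4.Pt 0)) = true := by decide +kernel
theorem t1_f3 : (Nat.ble t1l3.K 70 && Nat.ble (topK [t1l4, t1l5, t1l6, t1l7, t1l8, t1l9, t1l10, t1l11, t1l12, t1l13, t1l14, t1l15, t1l16, t1l17, t1l18, t1l19]) t1l3.K && fixLetters t1h_P (topK [t1l4, t1l5, t1l6, t1l7, t1l8, t1l9, t1l10, t1l11, t1l12, t1l13, t1l14, t1l15, t1l16, t1l17, t1l18, t1l19]) (t1l3.Pt 0)) = true := by decide +kernel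
theorem t1_f2 : (Nat.ble t1l2.K 70 && Nat.ble (topK [t1l3, t1l4, t1l5, t1l6, t1l7, t1l8, t1l9, t1l10, t1l11, t1l12, t1l13, t1l14, t1l15, t1l16, t1l17, t1l18, t1l19]) t1l2.K && fixLetters t1h_P (topK [t1l3, t1l4, t1l5, t1l6, t1l7, t1l8, t1l9, t1l10, t1l11, t1l12, t1l13, t1l14, t1l15, t1l16, t1l17, t1l18, t1l19]) (t1l2.Pt 0)) = true := by decide +kernel
theorem t1_f1 : (Nat.ble t1l1.K 70 && Nat.ble (topK [t1l2, t1l3, t1l4, t1l5, t1l6, t1l7, t1l8, t1l9, t1l10, t1l11, t1l12, t1l13, t1l14, t1l15, t1l16, t1l17, t1l18, t1l19]) t1l1.K && fixLetters t1h_P (topK [t1l2, t1l3, t1l4, t1l5, t1l6, t1l7, t1l8, t1l9, t1l10, t1l11, t1l12, t1l13, t1l14, t1l15, t1l16, t1l17, t1l18, t1l19]) (t1l1.Pt 0)) = true := by decide +kernel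
theorem t1_f0 : (Nat.ble t1l0.K 70 && Nat.ble (topK [t1l1, t1l2, t1l3, t1l4, t1l5, t1l6, t1l7, t1l8, t1l9, t1l10, t1l11, t1l12, t1l13, t1l14, t1l15, t1l16, t1l17, t1l18, t1l19]) t1l0.K && fixLetters t1h_P (topK [t1l1, t1l2, t1l3, t1l4, t1l5, t1l6, t1l7, t1l8, t1l9, t1l10, t1l11, t1l12, t1l13, t1l14, t1l15, t1l16, t1l17, t1l18, t1l19]) (t1l0.Pt 0)) = true := by decide +kernel
theorem t1_c : chainCard [t1l0, t1l1, t1l2, t1l3, t1l4, t1l5, t1l6, t1l7, t1l8, t1l9, t1l10, t1l11, t1l12, t1l13, t1l14, t1l15, t1l16, t1l17, t1l18, t1l19] = 9643575969054720 := by decide +kernel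
theorem c1e_lt : allL (ltAll 53) c1e_W = true := by decide +kernel
theorem c1_f19 : (Nat.ble t1l19.K 70 && Nat.blt (nat_lit 0) 1782 && fixLetters t1h_P t1l19.K (nat_lit 0) && Nat.beq (ltAll 10 [nat_lit 0, nat_lit 7]) 0 && Nat.beq (apW (rl [nat_lit 30, nat_lit 31, nat_lit 32, nat_lit 33, nat_lit 34, nat_lit 35, nat_lit 36, nat_lit 37, nat_lit 38, nat_lit 29] H18.TE.M.P) [nat_lit 0, nat_lit 7] (nat_lit 0)) (t1l19.Pt 0)) = true := by decide +kernel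
theorem c1_f18 : (Nat.ble t1l18.K 70 && Nat.blt (nat_lit 0) 1782 && fixLetters t1h_P t1l18.K (nat_lit 0) && Nat.beq (ltAll 10 [nat_lit 1, nat_lit 7]) 0 && Nat.beq (apW (rl [nat_lit 30, nat_lit 31, nat_lit 32, nat_lit 33, nat_lit 34, nat_lit 35, nat_lit 36, nat_lit 37, nat_lit 38, nat_lit 29] H18.TE.M.P) [nat_lit 1, nat_lit 7] (nat_lit 0)) (t1l18.Pt 0)) = true := by decide +kernel
theorem c1_f17 : (Nat.ble t1l17.K 70 && Nat.blt (nat_lit 0) 1782 && fixLetters t1h_P t1l17.K (nat_lit 0) && Nat.beq (ltAll 10 [nat_lit 4, nat_lit 7]) 0 && Nat.beq (apW (rl [nat_lit 30, nat_lit 31, nat_lit 32, nat_lit 33, nat_lit 34, nat_lit 35, nat_lit 36, nat_lit 37, nat_lit 38, nat_lit 29] H18.TE.M.P) [nat_lit 4, nat_lit 7] (nat_lit 0)) (t1l17.Pt 0)) = true := by decide +kernel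
theorem c1_f16 : (Nat.ble t1l16.K 70 && Nat.blt (nat_lit 0) 1782 && fixLetters t1h_P t1l16.K (nat_lit 0) && Nat.beq (ltAll 10 [nat_lit 3, nat_lit 4]) 0 && Nat.beq (apW (rl [nat_lit 30, nat_lit 31, nat_lit 32, nat_lit 33, nat_lit 34, nat_lit 35, nat_lit 36, nat_lit 37, nat_lit 38, nat_lit 29] H18.TE.M.P) [nat_lit 3, nat_lit 4] (nat_lit 0)) (t1l16.Pt 0)) = true := by decide +kernel
theorem c1_f15 : (Nat.ble t1l15.K 70 && Nat.blt (nat_lit 0) 1782 && fixLetters t1h_P t1l15.K (nat_lit 0) && Nat.beq (ltAll 10 [nat_lit 1, nat_lit 4]) 0 && Nat.beq (apW (rl [nat_lit 30, nat_lit 31, nat_lit 32, nat_lit 33, nat_lit 34, nat_lit 35, nat_lit 36, nat_lit 37, nat_lit 38, nat_lit 29] H18.TE.M.P) [nat_lit 1, nat_lit 4] (nat_lit 0)) (t1l15.Pt 0)) = true := by decide +kernel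
theorem c1_f14 : (Nat.ble t1l14.K 70 && Nat.blt (nat_lit 0) 1782 && fixLetters t1h_P t1l14.K (nat_lit 0) && Nat.beq (ltAll 10 [nat_lit 1, nat_lit 6]) 0 && Nat.beq (apW (rl [nat_lit 30, nat_lit 31, nat_lit 32, nat_lit 33, nat_lit 34, nat_lit 35, nat_lit 36, nat_lit 37, nat_lit 38, nat_lit 29] H18.TE.M.P) [nat_lit 1, nat_lit 6] (nat_lit 0)) (t1l14.Pt 0)) = true := by decide +kernel
theorem c1_f13 : (Nat.ble t1l13.K 70 && Nat.blt (nat_lit 0) 1782 && fixLetters t1h_P t1l13.K (nat_lit 0) && Nat.beq (ltAll 10 [nat_lit 0, nat_lit 3]) 0 && Nat.beq (apW (rl [nat_lit 30, nat_lit 31, nat_lit 32, nat_lit 33, nat_lit 34, nat_lit 35, nat_lit 36, nat_lit 37, nat_lit 38, nat_lit 29] H18.TE.M.P) [nat_lit 0, nat_lit 3] (nat_lit 0)) (t1l13.Pt 0)) = true := by decide +kernel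
theorem c1_f12 : (Nat.ble t1l12.K 70 && Nat.blt (nat_lit 0) 1782 && fixLetters t1h_P t1l12.K (nat_lit 0) && Nat.beq (ltAll 10 [nat_lit 4, nat_lit 6]) 0 && Nat.beq (apW (rl [nat_lit 30, nat_lit 31, nat_lit 32, nat_lit 33, nat_lit 34, nat_lit 35, nat_lit 36, nat_lit 37, nat_lit 38, nat_lit 29] H18.TE.M.P) [nat_lit 4, nat_lit 6] (nat_lit 0)) (t1l12.Pt 0)) = true := by decide +kernel
theorem c1_f11 : (Nat.ble t1l11.K 70 && Nat.blt (nat_lit 0) 1782 && fixLetters t1h_P t1l11.K (nat_lit 0) && Nat.beq (ltAll 10 [nat_lit 0, nat_lit 8]) 0 && Nat.beq (apW (rl [nat_lit 30, nat_lit 31, nat_lit 32, nat_lit 33, nat_lit 34, nat_lit 35, nat_lit 36, nat_lit 37, nat_lit 38, nat_lit 29] H18.TE.M.P) [nat_lit 0, nat_lit 8] (nat_lit 0)) (t1l11.Pt 0)) = true := by decide +kernel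
theorem c1_f10 : (Nat.ble t1l10.K 70 && Nat.blt (nat_lit 0) 1782 && fixLetters t1h_P t1l10.K (nat_lit 0) && Nat.beq (ltAll 10 [nat_lit 2]) 0 && Nat.beq (apW (rl [nat_lit 30, nat_lit 31, nat_lit 32, nat_lit 33, nat_lit 34, nat_lit 35, nat_lit 36, nat_lit 37, nat_lit 38, nat_lit 29] H18.TE.M.P) [nat_lit 2] (nat_lit 0)) (t1l10.Pt 0)) = true := by decide +kernel
theorem c1_f9 : (Nat.ble t1l9.K 70 && Nat.blt (nat_lit 0) 1782 && fixLetters t1h_P t1l9.K (nat_lit 0) && Nat.beq (ltAll 10 [nat_lit 1]) 0 && Nat.beq (apW (rl [nat_lit 30, nat_lit 31, nat_lit 32, nat_lit 33, nat_lit 34, nat_lit 35, nat_lit 36, nat_lit 37, nat_lit 38, nat_lit 29] H18.TE.M.P) [nat_lit 1] (nat_lit 0)) (t1l9.Pt 0)) = true := by decide +kernel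
theorem c1_f8 : (Nat.ble t1l8.K 70 && Nat.blt (nat_lit 0) 1782 && fixLetters t1h_P t1l8.K (nat_lit 0) && Nat.beq (ltAll 10 [nat_lit 5]) 0 && Nat.beq (apW (rl [nat_lit 30, nat_lit 31, nat_lit 32, nat_lit 33, nat_lit 34, nat_lit 35, nat_lit 36, nat_lit 37, nat_lit 38, nat_lit 29] H18.TE.M.P) [nat_lit 5] (nat_lit 0)) (t1l8.Pt 0)) = true := by decide +kernel
theorem c1_f7 : (Nat.ble t1l7.K 70 && Nat.blt (nat_lit 0) 1782 && fixLetters t1h_P t1l7.K (nat_lit 0) && Nat.beq (ltAll 10 [nat_lit 4]) 0 && Nat.beq (apW (rl [nat_lit 30, nat_lit 31, nat_lit 32, nat_lit 33, nat_lit 34, nat_lit 35, nat_lit 36, nat_lit 37, nat_lit 38, nat_lit 29] H18.TE.M.P) [nat_lit 4] (nat_lit 0)) (t1l7.Pt 0)) = true := by decide +kernel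
theorem c1_f6 : (Nat.ble t1l6.K 70 && Nat.blt (nat_lit 0) 1782 && fixLetters t1h_P t1l6.K (nat_lit 0) && Nat.beq (ltAll 10 [nat_lit 0]) 0 && Nat.beq (apW (rl [nat_lit 30, nat_lit 31, nat_lit 32, nat_lit 33, nat_lit 34, nat_lit 35, nat_lit 36, nat_lit 37, nat_lit 38, nat_lit 29] H18.TE.M.P) [nat_lit 0] (nat_lit 0)) (t1l6.Pt 0)) = true := by decide +kernel
theorem c1_f5 : (Nat.ble t1l5.K 70 && Nat.blt (nat_lit 0) 1782 && fixLetters t1h_P t1l5.K (nat_lit 0) && Nat.beq (ltAll 10 [nat_lit 3, nat_lit 8]) 0 && Nat.beq (apW (rl [nat_lit 30, nat_lit 31, nat_lit 32, nat_lit 33, nat_lit 34, nat_lit 35, nat_lit 36, nat_lit 37, nat_lit 38, nat_lit 29] H18.TE.M.P) [nat_lit 3, nat_lit 8] (nat_lit 0)) (t1l5.Pt 0)) = true := by decide +kernel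
theorem c1_f4 : (Nat.ble t1l4.K 70 && Nat.blt (nat_lit 0) 1782 && fixLetters t1h_P t1l4.K (nat_lit 0) && Nat.beq (ltAll 10 [nat_lit 7]) 0 && Nat.beq (apW (rl [nat_lit 30, nat_lit 31, nat_lit 32, nat_lit 33, nat_lit 34, nat_lit 35, nat_lit 36, nat_lit 37, nat_lit 38, nat_lit 29] H18.TE.M.P) [nat_lit 7] (nat_lit 0)) (t1l4.Pt 0)) = true := by decide +kernel
theorem c1_f3 : (Nat.ble t1l3.K 70 && Nat.blt (nat_lit 0) 1782 && fixLetters t1h_P t1l3.K (nat_lit 0) && Nat.beq (ltAll 10 [nat_lit 6]) 0 && Nat.beq (apW (rl [nat_lit 30, nat_lit 31, nat_lit 32, nat_lit 33, nat_lit 34, nat_lit 35, nat_lit 36, nat_lit 37, nat_lit 38, nat_lit 29] H18.TE.M.P) [nat_lit 6] (nat_lit 0)) (t1l3.Pt 0)) = true := by decide +kernel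
theorem c1_f2 : (Nat.ble t1l2.K 70 && Nat.blt (nat_lit 0) 1782 && fixLetters t1h_P t1l2.K (nat_lit 0) && Nat.beq (ltAll 10 [nat_lit 3]) 0 && Nat.beq (apW (rl [nat_lit 30, nat_lit 31, nat_lit 32, nat_lit 33, nat_lit 34, nat_lit 35, nat_lit 36, nat_lit 37, nat_lit 38, nat_lit 29] H18.TE.M.P) [nat_lit 3] (nat_lit 0)) (t1l2.Pt 0)) = true := by decide +kernel
theorem c1_f1 : (Nat.ble t1l1.K 70 && Nat.blt (nat_lit 0) 1782 && fixLetters t1h_P t1l1.K (nat_lit 0) && Nat.beq (ltAll 10 [nat_lit 8]) 0 && Nat.beq (apW (rl [nat_lit 30, nat_lit 31, nat_lit 32, nat_lit 33, nat_lit 34, nat_lit 35, nat_lit 36, nat_lit 37, nat_lit 38, nat_lit 29] H18.TE.M.P) [nat_lit 8] (nat_lit 0)) (t1l1.Pt 0)) = true := by decide +kernel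
theorem c1c0_e_0 : allZ (dent c1c0 c1e_P (nat_lit 1782)) (nat_lit 0) (nat_lit 1) = true := by decide +kernel
theorem c1c0_h : 0 < c1c0.n ∧ 0 < c1c0.K ∧ c1c0.Pt 0 < 1782 ∧ c1c0.Q (c1c0.Pt 0) = 0 := by decide +kernel
theorem t1n0_0 : (Nat.ble t1l0.K 70 && Nat.beq (ltAll 1782 []) 0 && kChk c1e_P (rl [nat_lit 30, nat_lit 31, nat_lit 32, nat_lit 33, nat_lit 34, nat_lit 35, nat_lit 36, nat_lit 37, nat_lit 38, nat_lit 29] H18.TE.M.P) t1n0.Kn 10 H18.TE.M.B [] && allL (ltAll 10) t1n0.pre && planOK t1h_P (rl [nat_lit 30, nat_lit 31, nat_lit 32, nat_lit 33, nat_lit 34, nat_lit 35, nat_lit 36, nat_lit 37, nat_lit 38, nat_lit 29] H18.TE.M.P) 10 (t1l0.Pt 0) t1n0.plan [t1l0, t1l1, t1l2, t1l3, t1l4, t1l5, t1l6, t1l7, t1l8, t1l9, t1l10, t1l11, t1l12, t1l13, t1l14, t1l15, t1l16, t1l17, t1l18, t1l19]) = true := by decide +kernel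
theorem t1n0_1_0 : allZ (t1n0.ent H18.TE.M.P t1h_P (rl [nat_lit 30, nat_lit 31, nat_lit 32, nat_lit 33, nat_lit 34, nat_lit 35, nat_lit 36, nat_lit 37, nat_lit 38, nat_lit 29] H18.TE.M.P) (rl [nat_lit 30, nat_lit 31, nat_lit 32, nat_lit 33, nat_lit 34, nat_lit 35, nat_lit 36, nat_lit 37, nat_lit 38, nat_lit 29] H18.TE.M.P) c1e_P (nat_lit 53) (nat_lit 10) H18.TE.M.B t1l0 [t1l1, t1l2, t1l3, t1l4, t1l5, t1l6, t1l7, t1l8, t1l9, t1l10, t1l11, t1l12, t1l13, t1l14, t1l15, t1l16, t1l17, t1l18, t1l19] (memO c1c0)) (nat_lit 0) (nat_lit 192) = true := by decide +kernel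
theorem t1n0_1_1 : allZ (t1n0.ent H18.TE.M.P t1h_P (rl [nat_lit 30, nat_lit 31, nat_lit 32, nat_lit 33, nat_lit 34, nat_lit 35, nat_lit 36, nat_lit 37, nat_lit 38, nat_lit 29] H18.TE.M.P) (rl [nat_lit 30, nat_lit 31, nat_lit 32, nat_lit 33, nat_lit 34, nat_lit 35, nat_lit 36, nat_lit 37, nat_lit 38, nat_lit 29] H18.TE.M.P) c1e_P (nat_lit 53) (nat_lit 10) H18.TE.M.B t1l0 [t1l1, t1l2, t1l3, t1l4, t1l5, t1l6, t1l7, t1l8, t1l9, t1l10, t1l11, t1l12, t1l13, t1l14, t1l15, t1l16, t1l17, t1l18, t1l19] (memO c1c0)) (nat_lit 192) (nat_lit 192) = true := by decide +kernel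
theorem t1n0_1_2 : allZ (t1n0.ent H18.TE.M.P t1h_P (rl [nat_lit 30, nat_lit 31, nat_lit 32, nat_lit 33, nat_lit 34, nat_lit 35, nat_lit 36, nat_lit 37, nat_lit 38, nat_lit 29] H18.TE.M.P) (rl [nat_lit 30, nat_lit 31, nat_lit 32, nat_lit 33, nat_lit 34, nat_lit 35, nat_lit 36, nat_lit 37, nat_lit 38, nat_lit 29] H18.TE.M.P) c1e_P (nat_lit 53) (nat_lit 10) H18.TE.M.B t1l0 [t1l1, t1l2, t1l3, t1l4, t1l5, t1l6, t1l7, t1l8, t1l9, t1l10, t1l11, t1l12, t1l13, t1l14, t1l15, t1l16, t1l17, t1l18, t1l19] (memO c1c0)) (nat_lit 384) (nat_lit 192) = true := by decide +kernel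
theorem t1n0_1_3 : allZ (t1n0.ent H18.TE.M.P t1h_P (rl [nat_lit 30, nat_lit 31, nat_lit 32, nat_lit 33, nat_lit 34, nat_lit 35, nat_lit 36, nat_lit 37, nat_lit 38, nat_lit 29] H18.TE.M.P) (rl [nat_lit 30, nat_lit 31, nat_lit 32, nat_lit 33, nat_lit 34, nat_lit 35, nat_lit 36, nat_lit 37, nat_lit 38, nat_lit 29] H18.TE.M.P) c1e_P (nat_lit 53) (nat_lit 10) H18.TE.M.B t1l0 [t1l1, t1l2, t1l3, t1l4, t1l5, t1l6, t1l7, t1l8, t1l9, t1l10, t1l11, t1l12, t1l13, t1l14, t1l15, t1l16, t1l17, t1l18, t1l19] (memO c1c0)) (nat_lit 576) (nat_lit 192) = true := by decide +kernel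
theorem t1n0_1_4 : allZ (t1n0.ent H18.TE.M.P t1h_P (rl [nat_lit 30, nat_lit 31, nat_lit 32, nat_lit 33, nat_lit 34, nat_lit 35, nat_lit 36, nat_lit 37, nat_lit 38, nat_lit 29] H18.TE.M.P) (rl [nat_lit 30, nat_lit 31, nat_lit 32, nat_lit 33, nat_lit 34, nat_lit 35, nat_lit 36, nat_lit 37, nat_lit 38, nat_lit 29] H18.TE.M.P) c1e_P (nat_lit 53) (nat_lit 10) H18.TE.M.B t1l0 [t1l1, t1l2, t1l3, t1l4, t1l5, t1l6, t1l7, t1l8, t1l9, t1l10, t1l11, t1l12, t1l13, t1l14, t1l15, t1l16, t1l17, t1l18, t1l19] (memO c1c0)) (nat_lit 768) (nat_lit 192) = true := by decide +kernel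
theorem t1n0_1_5 : allZ (t1n0.ent H18.TE.M.P t1h_P (rl [nat_lit 30, nat_lit 31, nat_lit 32, nat_lit 33, nat_lit 34, nat_lit 35, nat_lit 36, nat_lit 37, nat_lit 38, nat_lit 29] H18.TE.M.P) (rl [nat_lit 30, nat_lit 31, nat_lit 32, nat_lit 33, nat_lit 34, nat_lit 35, nat_lit 36, nat_lit 37, nat_lit 38, nat_lit 29] H18.TE.M.P) c1e_P (nat_lit 53) (nat_lit 10) H18.TE.M.B t1l0 [t1l1, t1l2, t1l3, t1l4, t1l5, t1l6, t1l7, t1l8, t1l9, t1l10, t1l11, t1l12, t1l13, t1l14, t1l15, t1l16, t1l17, t1l18, t1l19] (memO c1c0)) (nat_lit 960) (nat_lit 192) = true := by decide +kernel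
theorem t1n0_1_6 : allZ (t1n0.ent H18.TE.M.P t1h_P (rl [nat_lit 30, nat_lit 31, nat_lit 32, nat_lit 33, nat_lit 34, nat_lit 35, nat_lit 36, nat_lit 37, nat_lit 38, nat_lit 29] H18.TE.M.P) (rl [nat_lit 30, nat_lit 31, nat_lit 32, nat_lit 33, nat_lit 34, nat_lit 35, nat_lit 36, nat_lit 37, nat_lit 38, nat_lit 29] H18.TE.M.P) c1e_P (nat_lit 53) (nat_lit 10) H18.TE.M.B t1l0 [t1l1, t1l2, t1l3, t1l4, t1l5, t1l6, t1l7, t1l8, t1l9, t1l10, t1l11, t1l12, t1l13, t1l14, t1l15, t1l16, t1l17, t1l18, t1l19] (memO c1c0)) (nat_lit 1152) (nat_lit 192) = true := by decide +kernel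
theorem t1n0_1_7 : allZ (t1n0.ent H18.TE.M.P t1h_P (rl [nat_lit 30, nat_lit 31, nat_lit 32, nat_lit 33, nat_lit 34, nat_lit 35, nat_lit 36, nat_lit 37, nat_lit 38, nat_lit 29] H18.TE.M.P) (rl [nat_lit 30, nat_lit 31, nat_lit 32, nat_lit 33, nat_lit 34, nat_lit 35, nat_lit 36, nat_lit 37, nat_lit 38, nat_lit 29] H18.TE.M.P) c1e_P (nat_lit 53) (nat_lit 10) H18.TE.M.B t1l0 [t1l1, t1l2, t1l3, t1l4, t1l5, t1l6, t1l7, t1l8, t1l9, t1l10, t1l11, t1l12, t1l13, t1l14, t1l15, t1l16, t1l17, t1l18, t1l19] (memO c1c0)) (nat_lit 1344) (nat_lit 192) = true := by decide +kernel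
theorem t1n0_1_8 : allZ (t1n0.ent H18.TE.M.P t1h_P (rl [nat_lit 30, nat_lit 31, nat_lit 32, nat_lit 33, nat_lit 34, nat_lit 35, nat_lit 36, nat_lit 37, nat_lit 38, nat_lit 29] H18.TE.M.P) (rl [nat_lit 30, nat_lit 31, nat_lit 32, nat_lit 33, nat_lit 34, nat_lit 35, nat_lit 36, nat_lit 37, nat_lit 38, nat_lit 29] H18.TE.M.P) c1e_P (nat_lit 53) (nat_lit 10) H18.TE.M.B t1l0 [t1l1, t1l2, t1l3, t1l4, t1l5, t1l6, t1l7, t1l8, t1l9, t1l10, t1l11, t1l12, t1l13, t1l14, t1l15, t1l16, t1l17, t1l18, t1l19] (memO c1c0)) (nat_lit 1536) (nat_lit 192) = true := by decide +kernel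
theorem t1n0_1_9 : allZ (t1n0.ent H18.TE.M.P t1h_P (rl [nat_lit 30, nat_lit 31, nat_lit 32, nat_lit 33, nat_lit 34, nat_lit 35, nat_lit 36, nat_lit 37, nat_lit 38, nat_lit 29] H18.TE.M.P) (rl [nat_lit 30, nat_lit 31, nat_lit 32, nat_lit 33, nat_lit 34, nat_lit 35, nat_lit 36, nat_lit 37, nat_lit 38, nat_lit 29] H18.TE.M.P) c1e_P (nat_lit 53) (nat_lit 10) H18.TE.M.B t1l0 [t1l1, t1l2, t1l3, t1l4, t1l5, t1l6, t1l7, t1l8, t1l9, t1l10, t1l11, t1l12, t1l13, t1l14, t1l15, t1l16, t1l17, t1l18, t1l19] (memO c1c0)) (nat_lit 1728) (nat_lit 54) = true := by decide +kernel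
theorem c1_f0 : (Nat.ble c1c0.K 1 && Nat.ble (topK []) c1c0.K && Nat.beq (c1c0.Pt 0) (t1l0.Pt 0) && Nat.beq (ltAll 1782 []) 0 && kChk c1e_P (rl [nat_lit 30, nat_lit 31, nat_lit 32, nat_lit 33, nat_lit 34, nat_lit 35, nat_lit 36, nat_lit 37, nat_lit 38, nat_lit 29] H18.TE.M.P) c1c0.K 10 H18.TE.M.B []) = true := by decide +kernel
theorem c1_c : chainCard [c1c0] = 2 ∧ topK [c1c0] = 1 := by decide +kernel
theorem tbh_lt : allL (ltAll 53) tbh_W = true := by decide +kernel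
theorem tbl0_e_0 : allZ (dent tbl0 tbh_P (nat_lit 1782)) (nat_lit 0) (nat_lit 1781) = true := by decide +kernel
theorem tbl0_h : 0 < tbl0.n ∧ 0 < tbl0.K ∧ tbl0.Pt 0 < 1782 ∧ tbl0.Q (tbl0.Pt 0) = 0 := by decide +kernel
theorem tbl1_e_0 : allZ (dent tbl1 tbh_P (nat_lit 1782)) (nat_lit 0) (nat_lit 83) = true := by decide +kernel
theorem tbl1_h : 0 < tbl1.n ∧ 0 < tbl1.K ∧ tbl1.Pt 0 < 1782 ∧ tbl1.Q (tbl1.Pt 0) = 0 := by decide +kernel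
theorem tbl2_e_0 : allZ (dent tbl2 tbh_P (nat_lit 1782)) (nat_lit 0) (nat_lit 79) = true := by decide +kernel
theorem tbl2_h : 0 < tbl2.n ∧ 0 < tbl2.K ∧ tbl2.Pt 0 < 1782 ∧ tbl2.Q (tbl2.Pt 0) = 0 := by decide +kernel
theorem tbl3_e_0 : allZ (dent tbl3 tbh_P (nat_lit 1782)) (nat_lit 0) (nat_lit 11) = true := by decide +kernel
theorem tbl3_h : 0 < tbl3.n ∧ 0 < tbl3.K ∧ tbl3.Pt 0 < 1782 ∧ tbl3.Q (tbl3.Pt 0) = 0 := by decide +kernel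
theorem tbl4_e_0 : allZ (dent tbl4 tbh_P (nat_lit 1782)) (nat_lit 0) (nat_lit 63) = true := by decide +kernel
theorem tbl4_h : 0 < tbl4.n ∧ 0 < tbl4.K ∧ tbl4.Pt 0 < 1782 ∧ tbl4.Q (tbl4.Pt 0) = 0 := by decide +kernel
theorem tbl5_e_0 : allZ (dent tbl5 tbh_P (nat_lit 1782)) (nat_lit 0) (nat_lit 3) = true := by decide +kernel
theorem tbl5_h : 0 < tbl5.n ∧ 0 < tbl5.K ∧ tbl5.Pt 0 < 1782 ∧ tbl5.Q (tbl5.Pt 0) = 0 := by decide +kernel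
theorem tbl6_e_0 : allZ (dent tbl6 tbh_P (nat_lit 1782)) (nat_lit 0) (nat_lit 3) = true := by decide +kernel
theorem tbl6_h : 0 < tbl6.n ∧ 0 < tbl6.K ∧ tbl6.Pt 0 < 1782 ∧ tbl6.Q (tbl6.Pt 0) = 0 := by decide +kernel
theorem tbl7_e_0 : allZ (dent tbl7 tbh_P (nat_lit 1782)) (nat_lit 0) (nat_lit 3) = true := by decide +kernel
theorem tbl7_h : 0 < tbl7.n ∧ 0 < tbl7.K ∧ tbl7.Pt 0 < 1782 ∧ tbl7.Q (tbl7.Pt 0) = 0 := by decide +kernel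
theorem tbl8_e_0 : allZ (dent tbl8 tbh_P (nat_lit 1782)) (nat_lit 0) (nat_lit 3) = true := by decide +kernel
theorem tbl8_h : 0 < tbl8.n ∧ 0 < tbl8.K ∧ tbl8.Pt 0 < 1782 ∧ tbl8.Q (tbl8.Pt 0) = 0 := by decide +kernel
theorem tbl9_e_0 : allZ (dent tbl9 tbh_P (nat_lit 1782)) (nat_lit 0) (nat_lit 3) = true := by decide +kernel
theorem tbl9_h : 0 < tbl9.n ∧ 0 < tbl9.K ∧ tbl9.Pt 0 < 1782 ∧ tbl9.Q (tbl9.Pt 0) = 0 := by decide +kernel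
theorem tbl10_e_0 : allZ (dent tbl10 tbh_P (nat_lit 1782)) (nat_lit 0) (nat_lit 1) = true := by decide +kernel
theorem tbl10_h : 0 < tbl10.n ∧ 0 < tbl10.K ∧ tbl10.Pt 0 < 1782 ∧ tbl10.Q (tbl10.Pt 0) = 0 := by decide +kernel
theorem tbl11_e_0 : allZ (dent tbl11 tbh_P (nat_lit 1782)) (nat_lit 0) (nat_lit 1) = true := by decide +kernel
theorem tbl11_h : 0 < tbl11.n ∧ 0 < tbl11.K ∧ tbl11.Pt 0 < 1782 ∧ tbl11.Q (tbl11.Pt 0) = 0 := by decide +kernel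
theorem tbl12_e_0 : allZ (dent tbl12 tbh_P (nat_lit 1782)) (nat_lit 0) (nat_lit 1) = true := by decide +kernel
theorem tbl12_h : 0 < tbl12.n ∧ 0 < tbl12.K ∧ tbl12.Pt 0 < 1782 ∧ tbl12.Q (tbl12.Pt 0) = 0 := by decide +kernel
theorem tbl13_e_0 : allZ (dent tbl13 tbh_P (nat_lit 1782)) (nat_lit 0) (nat_lit 1) = true := by decide +kernel
theorem tbl13_h : 0 < tbl13.n ∧ 0 < tbl13.K ∧ tbl13.Pt 0 < 1782 ∧ tbl13.Q (tbl13.Pt 0) = 0 := by decide +kernel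
theorem tbl14_e_0 : allZ (dent tbl14 tbh_P (nat_lit 1782)) (nat_lit 0) (nat_lit 1) = true := by decide +kernel
theorem tbl14_h : 0 < tbl14.n ∧ 0 < tbl14.K ∧ tbl14.Pt 0 < 1782 ∧ tbl14.Q (tbl14.Pt 0) = 0 := by decide +kernel
theorem tbl15_e_0 : allZ (dent tbl15 tbh_P (nat_lit 1782)) (nat_lit 0) (nat_lit 1) = true := by decide +kernel
theorem tbl15_h : 0 < tbl15.n ∧ 0 < tbl15.K ∧ tbl15.Pt 0 < 1782 ∧ tbl15.Q (tbl15.Pt 0) = 0 := by decide +kernel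
theorem tbl16_e_0 : allZ (dent tbl16 tbh_P (nat_lit 1782)) (nat_lit 0) (nat_lit 1) = true := by decide +kernel
theorem tbl16_h : 0 < tbl16.n ∧ 0 < tbl16.K ∧ tbl16.Pt 0 < 1782 ∧ tbl16.Q (tbl16.Pt 0) = 0 := by decide +kernel
theorem tbl17_e_0 : allZ (dent tbl17 tbh_P (nat_lit 1782)) (nat_lit 0) (nat_lit 1) = true := by decide +kernel
theorem tbl17_h : 0 < tbl17.n ∧ 0 < tbl17.K ∧ tbl17.Pt 0 < 1782 ∧ tbl17.Q (tbl17.Pt 0) = 0 := by decide +kernel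
theorem tbl18_e_0 : allZ (dent tbl18 tbh_P (nat_lit 1782)) (nat_lit 0) (nat_lit 1) = true := by decide +kernel
theorem tbl18_h : 0 < tbl18.n ∧ 0 < tbl18.K ∧ tbl18.Pt 0 < 1782 ∧ tbl18.Q (tbl18.Pt 0) = 0 := by decide +kernel
theorem tbl19_e_0 : allZ (dent tbl19 tbh_P (nat_lit 1782)) (nat_lit 0) (nat_lit 1) = true := by decide +kernel
theorem tbl19_h : 0 < tbl19.n ∧ 0 < tbl19.K ∧ tbl19.Pt 0 < 1782 ∧ tbl19.Q (tbl19.Pt 0) = 0 := by decide +kernel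
theorem tb_f19 : (Nat.ble tbl19.K 67 && Nat.ble (topK []) tbl19.K && fixLetters tbh_P (topK []) (tbl19.Pt 0)) = true := by decide +kernel
theorem tb_f18 : (Nat.ble tbl18.K 67 && Nat.ble (topK [tbl19]) tbl18.K && fixLetters tbh_P (topK [tbl19]) (tbl18.Pt 0)) = true := by decide +kernel
theorem tb_f17 : (Nat.ble tbl17.K 67 && Nat.ble (topK [tbl18, tbl19]) tbl17.K && fixLetters tbh_P (topK [tbl18, tbl19]) (tbl17.Pt 0)) = true := by decide +kernel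
theorem tb_f16 : (Nat.ble tbl16.K 67 && Nat.ble (topK [tbl17, tbl18, tbl19]) tbl16.K && fixLetters tbh_P (topK [tbl17, tbl18, tbl19]) (tbl16.Pt 0)) = true := by decide +kernel
theorem tb_f15 : (Nat.ble tbl15.K 67 && Nat.ble (topK [tbl16, tbl17, tbl18, tbl19]) tbl15.K && fixLetters tbh_P (topK [tbl16, tbl17, tbl18, tbl19]) (tbl15.Pt 0)) = true := by decide +kernel
theorem tb_f14 : (Nat.ble tbl14.K 67 && Nat.ble (topK [tbl15, tbl16, tbl17, tbl18, tbl19]) tbl14.K && fixLetters tbh_P (topK [tbl15, tbl16, tbl17, tbl18, tbl19]) (tbl14.Pt 0)) = true := by decide +kernel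
theorem tb_f13 : (Nat.ble tbl13.K 67 && Nat.ble (topK [tbl14, tbl15, tbl16, tbl17, tbl18, tbl19]) tbl13.K && fixLetters tbh_P (topK [tbl14, tbl15, tbl16, tbl17, tbl18, tbl19]) (tbl13.Pt 0)) = true := by decide +kernel
theorem tb_f12 : (Nat.ble tbl12.K 67 && Nat.ble (topK [tbl13, tbl14, tbl15, tbl16, tbl17, tbl18, tbl19]) tbl12.K && fixLetters tbh_P (topK [tbl13, tbl14, tbl15, tbl16, tbl17, tbl18, tbl19]) (tbl12.Pt 0)) = true := by decide +kernel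
theorem tb_f11 : (Nat.ble tbl11.K 67 && Nat.ble (topK [tbl12, tbl13, tbl14, tbl15, tbl16, tbl17, tbl18, tbl19]) tbl11.K && fixLetters tbh_P (topK [tbl12, tbl13, tbl14, tbl15, tbl16, tbl17, tbl18, tbl19]) (tbl11.Pt 0)) = true := by decide +kernel
theorem tb_f10 : (Nat.ble tbl10.K 67 && Nat.ble (topK [tbl11, tbl12, tbl13, tbl14, tbl15, tbl16, tbl17, tbl18, tbl19]) tbl10.K && fixLetters tbh_P (topK [tbl11, tbl12, tbl13, tbl14, tbl15, tbl16, tbl17, tbl18, tbl19]) (tbl10.Pt 0)) = true := by decide +kernel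
theorem tb_f9 : (Nat.ble tbl9.K 67 && Nat.ble (topK [tbl10, tbl11, tbl12, tbl13, tbl14, tbl15, tbl16, tbl17, tbl18, tbl19]) tbl9.K && fixLetters tbh_P (topK [tbl10, tbl11, tbl12, tbl13, tbl14, tbl15, tbl16, tbl17, tbl18, tbl19]) (tbl9.Pt 0)) = true := by decide +kernel
theorem tb_f8 : (Nat.ble tbl8.K 67 && Nat.ble (topK [tbl9, tbl10, tbl11, tbl12, tbl13, tbl14, tbl15, tbl16, tbl17, tbl18, tbl19]) tbl8.K && fixLetters tbh_P (topK [tbl9, tbl10, tbl11, tbl12, tbl13, tbl14, tbl15, tbl16, tbl17, tbl18, tbl19]) (tbl8.Pt 0)) = true := by decide +kernel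
theorem tb_f7 : (Nat.ble tbl7.K 67 && Nat.ble (topK [tbl8, tbl9, tbl10, tbl11, tbl12, tbl13, tbl14, tbl15, tbl16, tbl17, tbl18, tbl19]) tbl7.K && fixLetters tbh_P (topK [tbl8, tbl9, tbl10, tbl11, tbl12, tbl13, tbl14, tbl15, tbl16, tbl17, tbl18, tbl19]) (tbl7.Pt 0)) = true := by decide +kernel
theorem tb_f6 : (Nat.ble tbl6.K 67 && Nat.ble (topK [tbl7, tbl8, tbl9, tbl10, tbl11, tbl12, tbl13, tbl14, tbl15, tbl16, tbl17, tbl18, tbl19]) tbl6.K && fixLetters tbh_P (topK [tbl7, tbl8, tbl9, tbl10, tbl11, tbl12, tbl13, tbl14, tbl15, tbl16, tbl17, tbl18, tbl19]) (tbl6.Pt 0)) = true := by decide +kernel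
theorem tb_f5 : (Nat.ble tbl5.K 67 && Nat.ble (topK [tbl6, tbl7, tbl8, tbl9, tbl10, tbl11, tbl12, tbl13, tbl14, tbl15, tbl16, tbl17, tbl18, tbl19]) tbl5.K && fixLetters tbh_P (topK [tbl6, tbl7, tbl8, tbl9, tbl10, tbl11, tbl12, tbl13, tbl14, tbl15, tbl16, tbl17, tbl18, tbl19]) (tbl5.Pt 0)) = true := by decide +kernel
theorem tb_f4 : (Nat.ble tbl4.K 67 && Nat.ble (topK [tbl5, tbl6, tbl7, tbl8, tbl9, tbl10, tbl11, tbl12, tbl13, tbl14, tbl15, tbl16, tbl17, tbl18, tbl19]) tbl4.K && fixLetters tbh_P (topK [tbl5, tbl6, tbl7, tbl8, tbl9, tbl10, tbl11, tbl12, tbl13, tbl14, tbl15, tbl16, tbl17, tbl18, tbl19]) (tbl4.Pt 0)) = true := by decide +kernel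
theorem tb_f3 : (Nat.ble tbl3.K 67 && Nat.ble (topK [tbl4, tbl5, tbl6, tbl7, tbl8, tbl9, tbl10, tbl11, tbl12, tbl13, tbl14, tbl15, tbl16, tbl17, tbl18, tbl19]) tbl3.K && fixLetters tbh_P (topK [tbl4, tbl5, tbl6, tbl7, tbl8, tbl9, tbl10, tbl11, tbl12, tbl13, tbl14, tbl15, tbl16, tbl17, tbl18, tbl19]) (tbl3.Pt 0)) = true := by decide +kernel
theorem tb_f2 : (Nat.ble tbl2.K 67 && Nat.ble (topK [tbl3, tbl4, tbl5, tbl6, tbl7, tbl8, tbl9, tbl10, tbl11, tbl12, tbl13, tbl14, tbl15, tbl16, tbl17, tbl18, tbl19]) tbl2.K && fixLetters tbh_P (topK [tbl3, tbl4, tbl5, tbl6, tbl7, tbl8, tbl9, tbl10, tbl11, tbl12, tbl13, tbl14, tbl15, tbl16, tbl17, tbl18, tbl19]) (tbl2.Pt 0)) = true := by decide +kernel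
theorem tb_f1 : (Nat.ble tbl1.K 67 && Nat.ble (topK [tbl2, tbl3, tbl4, tbl5, tbl6, tbl7, tbl8, tbl9, tbl10, tbl11, tbl12, tbl13, tbl14, tbl15, tbl16, tbl17, tbl18, tbl19]) tbl1.K && fixLetters tbh_P (topK [tbl2, tbl3, tbl4, tbl5, tbl6, tbl7, tbl8, tbl9, tbl10, tbl11, tbl12, tbl13, tbl14, tbl15, tbl16, tbl17, tbl18, tbl19]) (tbl1.Pt 0)) = true := by decide +kernel
theorem tb_f0 : (Nat.ble tbl0.K 67 && Nat.ble (topK [tbl1, tbl2, tbl3, tbl4, tbl5, tbl6, tbl7, tbl8, tbl9, tbl10, tbl11, tbl12, tbl13, tbl14, tbl15, tbl16, tbl17, tbl18, tbl19]) tbl0.K && fixLetters tbh_P (topK [tbl1, tbl2, tbl3, tbl4, tbl5, tbl6, tbl7, tbl8, tbl9, tbl10, tbl11, tbl12, tbl13, tbl14, tbl15, tbl16, tbl17, tbl18, tbl19]) (tbl0.Pt 0)) = true := by decide +kernel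
theorem tb_c : chainCard [tbl0, tbl1, tbl2, tbl3, tbl4, tbl5, tbl6, tbl7, tbl8, tbl9, tbl10, tbl11, tbl12, tbl13, tbl14, tbl15, tbl16, tbl17, tbl18, tbl19] = 9643575969054720 := by decide +kernel
theorem cbe_lt : allL (ltAll 53) cbe_W = true := by decide +kernel
theorem cb_f19 : (Nat.ble tbl19.K 67 && Nat.blt (nat_lit 438) 1782 && fixLetters tbh_P tbl19.K (nat_lit 438) && Nat.beq (ltAll 1 [nat_lit 0, nat_lit 0]) 0 && Nat.beq (apW (rl [nat_lit 45] H18.TE.M.P) [nat_lit 0, nat_lit 0] (nat_lit 438)) (tbl19.Pt 0)) = true := by decide +kernel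
theorem cb_f18 : (Nat.ble tbl18.K 67 && Nat.blt (nat_lit 438) 1782 && fixLetters tbh_P tbl18.K (nat_lit 438) && Nat.beq (ltAll 1 [nat_lit 0]) 0 && Nat.beq (apW (rl [nat_lit 45] H18.TE.M.P) [nat_lit 0] (nat_lit 438)) (tbl18.Pt 0)) = true := by decide +kernel
theorem tbn0_0 : (Nat.ble tbl17.K 67 && Nat.beq (ltAll 1782 [tbl16.Pt 0, tbl15.Pt 0, tbl14.Pt 0, tbl13.Pt 0, tbl12.Pt 0, tbl11.Pt 0, tbl10.Pt 0, tbl9.Pt 0, tbl8.Pt 0, tbl7.Pt 0, tbl6.Pt 0, tbl5.Pt 0, tbl4.Pt 0, tbl3.Pt 0, tbl2.Pt 0, tbl1.Pt 0, tbl0.Pt 0]) 0 && kChk cbe_P (rl [nat_lit 45] H18.TE.M.P) tbn0.Kn 1 H18.TE.M.B [tbl16.Pt 0, tbl15.Pt 0, tbl14.Pt 0, tbl13.Pt 0, tbl12.Pt 0, tbl11.Pt 0, tbl10.Pt 0, tbl9.Pt 0, tbl8.Pt 0, tbl7.Pt 0, tbl6.Pt 0, tbl5.Pt 0, tbl4.Pt 0, tbl3.Pt 0, tbl2.Pt 0, tbl1.Pt 0, tbl0.Pt 0] && allL (ltAll 1) tbn0.pre && planOK tbh_P (rl [nat_lit 45] H18.TE.M.P)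 1 (tbl17.Pt 0) tbn0.plan [tbl17, tbl18, tbl19]) = true := by decide +kernel
theorem tbn0_1_0 : allZ (tbn0.ent H18.TE.M.P tbh_P (rl [nat_lit 45] H18.TE.M.P) (rl [nat_lit 45] H18.TE.M.P) cbe_P (nat_lit 53) (nat_lit 1) H18.TE.M.B tbl17 [tbl18, tbl19] (fun w => Nat.xor w (tbl17.Pt (nat_lit 0)))) (nat_lit 0) (nat_lit 2) = true := by decide +kernel
theorem cb_f16 : (Nat.ble tbl16.K 67 && Nat.blt (nat_lit 270) 1782 && fixLetters tbh_P tbl16.K (nat_lit 270) && Nat.beq (ltAll 1 [nat_lit 0, nat_lit 0]) 0 && Nat.beq (apW (rl [nat_lit 45] H18.TE.M.P) [nat_lit 0, nat_lit 0] (nat_lit 270)) (tbl16.Pt 0)) = true := by decide +kernel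
theorem cb_f15 : (Nat.ble tbl15.K 67 && Nat.blt (nat_lit 270) 1782 && fixLetters tbh_P tbl15.K (nat_lit 270) && Nat.beq (ltAll 1 [nat_lit 0]) 0 && Nat.beq (apW (rl [nat_lit 45] H18.TE.M.P) [nat_lit 0] (nat_lit 270)) (tbl15.Pt 0)) = true := by decide +kernel
theorem tbn1_0 : (Nat.ble tbl14.K 67 && Nat.beq (ltAll 1782 [tbl13.Pt 0, tbl12.Pt 0, tbl11.Pt 0, tbl10.Pt 0, tbl9.Pt 0, tbl8.Pt 0, tbl7.Pt 0, tbl6.Pt 0, tbl5.Pt 0, tbl4.Pt 0, tbl3.Pt 0, tbl2.Pt 0, tbl1.Pt 0, tbl0.Pt 0]) 0 && kChk cbe_P (rl [nat_lit 45] H18.TE.M.P) tbn1.Kn 1 H18.TE.M.B [tbl13.Pt 0, tbl12.Pt 0, tbl11.Pt 0, tbl10.Pt 0, tbl9.Pt 0, tbl8.Pt 0, tbl7.Pt 0, tbl6.Pt 0, tbl5.Pt 0, tbl4.Pt 0, tbl3.Pt 0, tbl2.Pt 0, tbl1.Pt 0, tbl0.Pt 0] && allL (ltAll 1) tbn1.pre && planOK tbh_P (rl [nat_lit 45] H18.TE.M.P) 1 (tbl14.Pt 0) tbn1.plan [tbl14, tbl15, tbl16, tbl17, tbl18, tbl19])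 = true := by decide +kernel
theorem tbn1_1_0 : allZ (tbn1.ent H18.TE.M.P tbh_P (rl [nat_lit 45] H18.TE.M.P) (rl [nat_lit 45] H18.TE.M.P) cbe_P (nat_lit 53) (nat_lit 1) H18.TE.M.B tbl14 [tbl15, tbl16, tbl17, tbl18, tbl19] (fun w => Nat.xor w (tbl14.Pt (nat_lit 0)))) (nat_lit 0) (nat_lit 2) = true := by decide +kernel
theorem cbc13_e_0 : allZ (dent cbc13 cbe_P (nat_lit 1782)) (nat_lit 0) (nat_lit 1) = true := by decide +kernel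
theorem cbc13_h : 0 < cbc13.n ∧ 0 < cbc13.K ∧ cbc13.Pt 0 < 1782 ∧ cbc13.Q (cbc13.Pt 0) = 0 := by decide +kernel
theorem tbn2_0 : (Nat.ble tbl13.K 67 && Nat.beq (ltAll 1782 [tbl12.Pt 0, tbl11.Pt 0, tbl10.Pt 0, tbl9.Pt 0, tbl8.Pt 0, tbl7.Pt 0, tbl6.Pt 0, tbl5.Pt 0, tbl4.Pt 0, tbl3.Pt 0, tbl2.Pt 0, tbl1.Pt 0, tbl0.Pt 0]) 0 && kChk cbe_P (rl [nat_lit 45] H18.TE.M.P) tbn2.Kn 1 H18.TE.M.B [tbl12.Pt 0, tbl11.Pt 0, tbl10.Pt 0, tbl9.Pt 0, tbl8.Pt 0, tbl7.Pt 0, tbl6.Pt 0, tbl5.Pt 0, tbl4.Pt 0, tbl3.Pt 0, tbl2.Pt 0, tbl1.Pt 0, tbl0.Pt 0] && allL (ltAll 1) tbn2.pre && planOK tbh_P (rl [nat_lit 45] H18.TE.M.P) 1 (tbl13.Pt 0) tbn2.plan [tbl13, tbl14, tbl15, tbl16, tbl17, tbl18, tbl19]) = true := by decide +kernel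
theorem tbn2_1_0 : allZ (tbn2.ent H18.TE.M.P tbh_P (rl [nat_lit 45] H18.TE.M.P) (rl [nat_lit 45] H18.TE.M.P) cbe_P (nat_lit 53) (nat_lit 1) H18.TE.M.B tbl13 [tbl14, tbl15, tbl16, tbl17, tbl18, tbl19] (memO cbc13)) (nat_lit 0) (nat_lit 2) = true := by decide +kernel
theorem cb_f13 : (Nat.ble cbc13.K 3 && Nat.ble (topK []) cbc13.K && Nat.beq (cbc13.Pt 0) (tbl13.Pt 0) && Nat.beq (ltAll 1782 [tbl12.Pt 0, tbl11.Pt 0, tbl10.Pt 0, tbl9.Pt 0, tbl8.Pt 0, tbl7.Pt 0, tbl6.Pt 0, tbl5.Pt 0, tbl4.Pt 0, tbl3.Pt 0, tbl2.Pt 0, tbl1.Pt 0, tbl0.Pt 0]) 0 && kChk cbe_P (rl [nat_lit 45] H18.TE.M.P) cbc13.K 1 H18.TE.M.B [tbl12.Pt 0, tbl11.Pt 0, tbl10.Pt 0, tbl9.Pt 0, tbl8.Pt 0, tbl7.Pt 0, tbl6.Pt 0, tbl5.Pt 0, tbl4.Pt 0, tbl3.Pt 0, tbl2.Pt 0, tbl1.Pt 0, tbl0.Pt 0]) = true := by decide +kernel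
theorem cb_f12 : (Nat.ble tbl12.K 67 && Nat.blt (nat_lit 7) 1782 && fixLetters tbh_P tbl12.K (nat_lit 7) && Nat.beq (ltAll 1 [nat_lit 0, nat_lit 0, nat_lit 0, nat_lit 0, nat_lit 0]) 0 && Nat.beq (apW (rl [nat_lit 45] H18.TE.M.P) [nat_lit 0, nat_lit 0, nat_lit 0, nat_lit 0, nat_lit 0] (nat_lit 7)) (tbl12.Pt 0)) = true := by decide +kernel
theorem cb_f11 : (Nat.ble tbl11.K 67 && Nat.blt (nat_lit 7) 1782 && fixLetters tbh_P tbl11.K (nat_lit 7) && Nat.beq (ltAll 1 [nat_lit 0, nat_lit 0, nat_lit 0, nat_lit 0]) 0 && Nat.beq (apW (rl [nat_lit 45] H18.TE.M.P) [nat_lit 0, nat_lit 0, nat_lit 0, nat_lit 0] (nat_lit 7)) (tbl11.Pt 0)) = true := by decide +kernel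
theorem cb_f10 : (Nat.ble tbl10.K 67 && Nat.blt (nat_lit 7) 1782 && fixLetters tbh_P tbl10.K (nat_lit 7) && Nat.beq (ltAll 1 [nat_lit 0, nat_lit 0, nat_lit 0]) 0 && Nat.beq (apW (rl [nat_lit 45] H18.TE.M.P) [nat_lit 0, nat_lit 0, nat_lit 0] (nat_lit 7)) (tbl10.Pt 0)) = true := by decide +kernel
theorem cb_f9 : (Nat.ble tbl9.K 67 && Nat.blt (nat_lit 7) 1782 && fixLetters tbh_P tbl9.K (nat_lit 7) && Nat.beq (ltAll 1 [nat_lit 0, nat_lit 0]) 0 && Nat.beq (apW (rl [nat_lit 45] H18.TE.M.P) [nat_lit 0, nat_lit 0] (nat_lit 7)) (tbl9.Pt 0)) = true := by decide +kernel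
theorem cb_f8 : (Nat.ble tbl8.K 67 && Nat.blt (nat_lit 7) 1782 && fixLetters tbh_P tbl8.K (nat_lit 7) && Nat.beq (ltAll 1 [nat_lit 0]) 0 && Nat.beq (apW (rl [nat_lit 45] H18.TE.M.P) [nat_lit 0] (nat_lit 7)) (tbl8.Pt 0)) = true := by decide +kernel
theorem tbn3_0 : (Nat.ble tbl7.K 67 && Nat.beq (ltAll 1782 [tbl6.Pt 0, tbl5.Pt 0, tbl4.Pt 0, tbl3.Pt 0, tbl2.Pt 0, tbl1.Pt 0, tbl0.Pt 0]) 0 && kChk cbe_P (rl [nat_lit 45] H18.TE.M.P) tbn3.Kn 1 H18.TE.M.B [tbl6.Pt 0, tbl5.Pt 0, tbl4.Pt 0, tbl3.Pt 0, tbl2.Pt 0, tbl1.Pt 0, tbl0.Pt 0] && allL (ltAll 1) tbn3.pre && planOK tbh_P (rl [nat_lit 45] H18.TE.M.P) 1 (tbl7.Pt 0) tbn3.plan [tbl7, tbl8, tbl9, tbl10, tbl11, tbl12, tbl13, tbl14, tbl15, tbl16, tbl17, tbl18, tbl19]) = true := by decide +kernel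
theorem tbn3_1_0 : allZ (tbn3.ent H18.TE.M.P tbh_P (rl [nat_lit 45] H18.TE.M.P) (rl [nat_lit 45] H18.TE.M.P) cbe_P (nat_lit 53) (nat_lit 1) H18.TE.M.B tbl7 [tbl8, tbl9, tbl10, tbl11, tbl12, tbl13, tbl14, tbl15, tbl16, tbl17, tbl18, tbl19] (fun w => Nat.xor w (tbl7.Pt (nat_lit 0)))) (nat_lit 0) (nat_lit 4) = true := by decide +kernel
theorem cb_f6 : (Nat.ble tbl6.K 67 && Nat.blt (nat_lit 1) 1782 && fixLetters tbh_P tbl6.K (nat_lit 1) && Nat.beq (ltAll 1 [nat_lit 0, nat_lit 0, nat_lit 0, nat_lit 0, nat_lit 0]) 0 && Nat.beq (apW (rl [nat_lit 45] H18.TE.M.P) [nat_lit 0, nat_lit 0, nat_lit 0, nat_lit 0, nat_lit 0] (nat_lit 1)) (tbl6.Pt 0)) = true := by decide +kernel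
theorem cb_f5 : (Nat.ble tbl5.K 67 && Nat.blt (nat_lit 1) 1782 && fixLetters tbh_P tbl5.K (nat_lit 1) && Nat.beq (ltAll 1 [nat_lit 0, nat_lit 0, nat_lit 0, nat_lit 0]) 0 && Nat.beq (apW (rl [nat_lit 45] H18.TE.M.P) [nat_lit 0, nat_lit 0, nat_lit 0, nat_lit 0] (nat_lit 1)) (tbl5.Pt 0)) = true := by decide +kernel
theorem cb_f4 : (Nat.ble tbl4.K 67 && Nat.blt (nat_lit 1) 1782 && fixLetters tbh_P tbl4.K (nat_lit 1) && Nat.beq (ltAll 1 [nat_lit 0, nat_lit 0]) 0 && Nat.beq (apW (rl [nat_lit 45] H18.TE.M.P) [nat_lit 0, nat_lit 0] (nat_lit 1)) (tbl4.Pt 0)) = true := by decide +kernel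
theorem cb_f3 : (Nat.ble tbl3.K 67 && Nat.blt (nat_lit 1) 1782 && fixLetters tbh_P tbl3.K (nat_lit 1) && Nat.beq (ltAll 1 [nat_lit 0, nat_lit 0, nat_lit 0]) 0 && Nat.beq (apW (rl [nat_lit 45] H18.TE.M.P) [nat_lit 0, nat_lit 0, nat_lit 0] (nat_lit 1)) (tbl3.Pt 0)) = true := by decide +kernel
theorem cb_f2 : (Nat.ble tbl2.K 67 && Nat.blt (nat_lit 1) 1782 && fixLetters tbh_P tbl2.K (nat_lit 1) && Nat.beq (ltAll 1 [nat_lit 0]) 0 && Nat.beq (apW (rl [nat_lit 45] H18.TE.M.P) [nat_lit 0] (nat_lit 1)) (tbl2.Pt 0)) = true := by decide +kernel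
theorem cbc1_e_0 : allZ (dent cbc1 cbe_P (nat_lit 1782)) (nat_lit 0) (nat_lit 6) = true := by decide +kernel
theorem cbc1_h : 0 < cbc1.n ∧ 0 < cbc1.K ∧ cbc1.Pt 0 < 1782 ∧ cbc1.Q (cbc1.Pt 0) = 0 := by decide +kernel
theorem tbn4_0 : (Nat.ble tbl1.K 67 && Nat.beq (ltAll 1782 [tbl0.Pt 0]) 0 && kChk cbe_P (rl [nat_lit 45] H18.TE.M.P) tbn4.Kn 1 H18.TE.M.B [tbl0.Pt 0] && allL (ltAll 1) tbn4.pre && planOK tbh_P (rl [nat_lit 45] H18.TE.M.P) 1 (tbl1.Pt 0) tbn4.plan [tbl1, tbl2, tbl3, tbl4, tbl5, tbl6, tbl7, tbl8, tbl9, tbl10, tbl11, tbl12, tbl13, tbl14, tbl15, tbl16, tbl17, tbl18, tbl19]) = true := by decide +kernel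
theorem tbn4_1_0 : allZ (tbn4.ent H18.TE.M.P tbh_P (rl [nat_lit 45] H18.TE.M.P) (rl [nat_lit 45] H18.TE.M.P) cbe_P (nat_lit 53) (nat_lit 1) H18.TE.M.B tbl1 [tbl2, tbl3, tbl4, tbl5, tbl6, tbl7, tbl8, tbl9, tbl10, tbl11, tbl12, tbl13, tbl14, tbl15, tbl16, tbl17, tbl18, tbl19] (memO cbc1)) (nat_lit 0) (nat_lit 84) = true := by decide +kernel
theorem cb_f1 : (Nat.ble cbc1.K 3 && Nat.ble (topK [cbc13]) cbc1.K && Nat.beq (cbc1.Pt 0) (tbl1.Pt 0) && Nat.beq (ltAll 1782 [tbl0.Pt 0]) 0 && kChk cbe_P (rl [nat_lit 45] H18.TE.M.P) cbc1.K 1 H18.TE.M.B [tbl0.Pt 0]) = true := by decide +kernel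
theorem cbc0_e_0 : allZ (dent cbc0 cbe_P (nat_lit 1782)) (nat_lit 0) (nat_lit 1) = true := by decide +kernel
theorem cbc0_h : 0 < cbc0.n ∧ 0 < cbc0.K ∧ cbc0.Pt 0 < 1782 ∧ cbc0.Q (cbc0.Pt 0) = 0 := by decide +kernel
theorem tbn5y71_lt : allL (ltAll 53) tbn5y71_W = true := by decide +kernel
theorem tbr6k_lt : allL (ltAll 53) tbr6k_W = true := by decide +kernel
theorem tbn6_0 : (Nat.ble tbl1.K 67 && Nat.beq (ltAll 1782 [tbl0.Pt 0]) 0 && kChk tbr6k_P tbn5y71_P tbn6.Kn 1 H18.TE.M.B [tbl0.Pt 0] && allL (ltAll 1) tbn6.pre && planOK tbh_P (rl [nat_lit 45] H18.TE.M.P) 1 (tbl1.Pt 0) tbn6.plan [tbl1, tbl2, tbl3, tbl4, tbl5, tbl6, tbl7, tbl8, tbl9, tbl10, tbl11, tbl12, tbl13, tbl14, tbl15, tbl16, tbl17, tbl18, tbl19]) = true := by decide +kernel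
theorem tbn6_1_0 : allZ (tbn6.ent H18.TE.M.P tbh_P (rl [nat_lit 45] H18.TE.M.P) tbn5y71_P tbr6k_P (nat_lit 53) (nat_lit 1) H18.TE.M.B tbl1 [tbl2, tbl3, tbl4, tbl5, tbl6, tbl7, tbl8, tbl9, tbl10, tbl11, tbl12, tbl13, tbl14, tbl15, tbl16, tbl17, tbl18, tbl19] (fun _ => nat_lit 1)) (nat_lit 0) (nat_lit 84) = true := by decide +kernel
theorem tbn5_0 : (Nat.ble tbl0.K 67 && Nat.beq (ltAll 1782 []) 0 && kChk cbe_P (rl [nat_lit 45] H18.TE.M.P) tbn5.Kn 1 H18.TE.M.B [] && allL (ltAll 1) tbn5.pre && planOK tbh_P (rl [nat_lit 45] H18.TE.M.P) 1 (tbl0.Pt 0) tbn5.plan [tbl0, tbl1, tbl2, tbl3, tbl4, tbl5, tbl6, tbl7, tbl8, tbl9, tbl10, tbl11, tbl12, tbl13, tbl14, tbl15, tbl16, tbl17, tbl18, tbl19]) = true := by decide +kernel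
theorem tbn5_1_0 : allZ (tbn5.ent H18.TE.M.P tbh_P (rl [nat_lit 45] H18.TE.M.P) (rl [nat_lit 45] H18.TE.M.P) cbe_P (nat_lit 53) (nat_lit 1) H18.TE.M.B tbl0 [tbl1, tbl2, tbl3, tbl4, tbl5, tbl6, tbl7, tbl8, tbl9, tbl10, tbl11, tbl12, tbl13, tbl14, tbl15, tbl16, tbl17, tbl18, tbl19] (memO cbc0)) (nat_lit 0) (nat_lit 1782) = true := by decide +kernel
theorem cb_f0 : (Nat.ble cbc0.K 3 && Nat.ble (topK [cbc1, cbc13]) cbc0.K && Nat.beq (cbc0.Pt 0) (tbl0.Pt 0) && Nat.beq (ltAll 1782 []) 0 && kChk cbe_P (rl [nat_lit 45] H18.TE.M.P) cbc0.K 1 H18.TE.M.B []) = true := by decide +kernel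
theorem cb_c : chainCard [cbc0, cbc1, cbc13] = 28 ∧ topK [cbc0, cbc1, cbc13] = 3 := by decide +kernel
theorem gb_k : allZ (fun a => Nat.add (ltAll 3 (nth [] [[nat_lit 2],
  [nat_lit 0, nat_lit 0, nat_lit 0, nat_lit 0, nat_lit 0],
  [nat_lit 0, nat_lit 0, nat_lit 0, nat_lit 0, nat_lit 0, nat_lit 1]] a)) (sumL (fun β => Nat.xor (cbe_P a β) (apW (rl [nat_lit 45, nat_lit 10, nat_lit 29] H18.TE.M.P) (nth [] [[nat_lit 2],
  [nat_lit 0, nat_lit 0, nat_lit 0, nat_lit 0, nat_lit 0],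
  [nat_lit 0, nat_lit 0, nat_lit 0, nat_lit 0, nat_lit 0, nat_lit 1]] a) β)) H18.TE.M.B)) 0 3 = true := by decide +kernel
theorem t4h_lt : allL (ltAll 53) t4h_W = true := by decide +kernel
theorem t4l0_e_0 : allZ (dent t4l0 t4h_P (nat_lit 1782)) (nat_lit 0) (nat_lit 1781) = true := by decide +kernel
theorem t4l0_h : 0 < t4l0.n ∧ 0 < t4l0.K ∧ t4l0.Pt 0 < 1782 ∧ t4l0.Q (t4l0.Pt 0) = 0 := by decide +kernel
theorem t4l1_e_0 : allZ (dent t4l1 t4h_P (nat_lit 1782)) (nat_lit 0) (nat_lit 83) = true := by decide +kernel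
theorem t4l1_h : 0 < t4l1.n ∧ 0 < t4l1.K ∧ t4l1.Pt 0 < 1782 ∧ t4l1.Q (t4l1.Pt 0) = 0 := by decide +kernel
theorem t4l2_e_0 : allZ (dent t4l2 t4h_P (nat_lit 1782)) (nat_lit 0) (nat_lit 79) = true := by decide +kernel
theorem t4l2_h : 0 < t4l2.n ∧ 0 < t4l2.K ∧ t4l2.Pt 0 < 1782 ∧ t4l2.Q (t4l2.Pt 0) = 0 := by decide +kernel
theorem t4l3_e_0 : allZ (dent t4l3 t4h_P (nat_lit 1782)) (nat_lit 0) (nat_lit 7) = true := by decide +kernel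
theorem t4l3_h : 0 < t4l3.n ∧ 0 < t4l3.K ∧ t4l3.Pt 0 < 1782 ∧ t4l3.Q (t4l3.Pt 0) = 0 := by decide +kernel
theorem t4l4_e_0 : allZ (dent t4l4 t4h_P (nat_lit 1782)) (nat_lit 0) (nat_lit 63) = true := by decide +kernel
theorem t4l4_h : 0 < t4l4.n ∧ 0 < t4l4.K ∧ t4l4.Pt 0 < 1782 ∧ t4l4.Q (t4l4.Pt 0) = 0 := by decide +kernel
theorem t4l5_e_0 : allZ (dent t4l5 t4h_P (nat_lit 1782)) (nat_lit 0) (nat_lit 23) = true := by decide +kernel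
theorem t4l5_h : 0 < t4l5.n ∧ 0 < t4l5.K ∧ t4l5.Pt 0 < 1782 ∧ t4l5.Q (t4l5.Pt 0) = 0 := by decide +kernel
theorem t4l6_e_0 : allZ (dent t4l6 t4h_P (nat_lit 1782)) (nat_lit 0) (nat_lit 7) = true := by decide +kernel
theorem t4l6_h : 0 < t4l6.n ∧ 0 < t4l6.K ∧ t4l6.Pt 0 < 1782 ∧ t4l6.Q (t4l6.Pt 0) = 0 := by decide +kernel
theorem t4l7_e_0 : allZ (dent t4l7 t4h_P (nat_lit 1782)) (nat_lit 0) (nat_lit 1) = true := by decide +kernel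
theorem t4l7_h : 0 < t4l7.n ∧ 0 < t4l7.K ∧ t4l7.Pt 0 < 1782 ∧ t4l7.Q (t4l7.Pt 0) = 0 := by decide +kernel
theorem t4l8_e_0 : allZ (dent t4l8 t4h_P (nat_lit 1782)) (nat_lit 0) (nat_lit 1) = true := by decide +kernel
theorem t4l8_h : 0 < t4l8.n ∧ 0 < t4l8.K ∧ t4l8.Pt 0 < 1782 ∧ t4l8.Q (t4l8.Pt 0) = 0 := by decide +kernel
theorem t4l9_e_0 : allZ (dent t4l9 t4h_P (nat_lit 1782)) (nat_lit 0) (nat_lit 1) = true := by decide +kernel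
theorem t4l9_h : 0 < t4l9.n ∧ 0 < t4l9.K ∧ t4l9.Pt 0 < 1782 ∧ t4l9.Q (t4l9.Pt 0) = 0 := by decide +kernel
theorem t4l10_e_0 : allZ (dent t4l10 t4h_P (nat_lit 1782)) (nat_lit 0) (nat_lit 1) = true := by decide +kernel
theorem t4l10_h : 0 < t4l10.n ∧ 0 < t4l10.K ∧ t4l10.Pt 0 < 1782 ∧ t4l10.Q (t4l10.Pt 0) = 0 := by decide +kernel
theorem t4l11_e_0 : allZ (dent t4l11 t4h_P (nat_lit 1782)) (nat_lit 0) (nat_lit 1) = true := by decide +kernel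
theorem t4l11_h : 0 < t4l11.n ∧ 0 < t4l11.K ∧ t4l11.Pt 0 < 1782 ∧ t4l11.Q (t4l11.Pt 0) = 0 := by decide +kernel
theorem t4l12_e_0 : allZ (dent t4l12 t4h_P (nat_lit 1782)) (nat_lit 0) (nat_lit 1) = true := by decide +kernel
theorem t4l12_h : 0 < t4l12.n ∧ 0 < t4l12.K ∧ t4l12.Pt 0 < 1782 ∧ t4l12.Q (t4l12.Pt 0) = 0 := by decide +kernel
theorem t4l13_e_0 : allZ (dent t4l13 t4h_P (nat_lit 1782)) (nat_lit 0) (nat_lit 1) = true := by decide +kernel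
theorem t4l13_h : 0 < t4l13.n ∧ 0 < t4l13.K ∧ t4l13.Pt 0 < 1782 ∧ t4l13.Q (t4l13.Pt 0) = 0 := by decide +kernel
theorem t4l14_e_0 : allZ (dent t4l14 t4h_P (nat_lit 1782)) (nat_lit 0) (nat_lit 1) = true := by decide +kernel
theorem t4l14_h : 0 < t4l14.n ∧ 0 < t4l14.K ∧ t4l14.Pt 0 < 1782 ∧ t4l14.Q (t4l14.Pt 0) = 0 := by decide +kernel
theorem t4l15_e_0 : allZ (dent t4l15 t4h_P (nat_lit 1782)) (nat_lit 0) (nat_lit 1) = true := by decide +kernel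
theorem t4l15_h : 0 < t4l15.n ∧ 0 < t4l15.K ∧ t4l15.Pt 0 < 1782 ∧ t4l15.Q (t4l15.Pt 0) = 0 := by decide +kernel
theorem t4l16_e_0 : allZ (dent t4l16 t4h_P (nat_lit 1782)) (nat_lit 0) (nat_lit 1) = true := by decide +kernel
theorem t4l16_h : 0 < t4l16.n ∧ 0 < t4l16.K ∧ t4l16.Pt 0 < 1782 ∧ t4l16.Q (t4l16.Pt 0) = 0 := by decide +kernel
theorem t4l17_e_0 : allZ (dent t4l17 t4h_P (nat_lit 1782)) (nat_lit 0) (nat_lit 1) = true := by decide +kernel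
theorem t4l17_h : 0 < t4l17.n ∧ 0 < t4l17.K ∧ t4l17.Pt 0 < 1782 ∧ t4l17.Q (t4l17.Pt 0) = 0 := by decide +kernel
theorem t4l18_e_0 : allZ (dent t4l18 t4h_P (nat_lit 1782)) (nat_lit 0) (nat_lit 1) = true := by decide +kernel
theorem t4l18_h : 0 < t4l18.n ∧ 0 < t4l18.K ∧ t4l18.Pt 0 < 1782 ∧ t4l18.Q (t4l18.Pt 0) = 0 := by decide +kernel
theorem t4l19_e_0 : allZ (dent t4l19 t4h_P (nat_lit 1782)) (nat_lit 0) (nat_lit 1) = true := by decide +kernel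
theorem t4l19_h : 0 < t4l19.n ∧ 0 < t4l19.K ∧ t4l19.Pt 0 < 1782 ∧ t4l19.Q (t4l19.Pt 0) = 0 := by decide +kernel
theorem t4_f19 : (Nat.ble t4l19.K 70 && Nat.ble (topK []) t4l19.K && fixLetters t4h_P (topK []) (t4l19.Pt 0)) = true := by decide +kernel
theorem t4_f18 : (Nat.ble t4l18.K 70 && Nat.ble (topK [t4l19]) t4l18.K && fixLetters t4h_P (topK [t4l19]) (t4l18.Pt 0)) = true := by decide +kernel
theorem t4_f17 : (Nat.ble t4l17.K 70 && Nat.ble (topK [t4l18, t4l19]) t4l17.K && fixLetters t4h_P (topK [t4l18, t4l19]) (t4l17.Pt 0)) = true := by decide +kernel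
theorem t4_f16 : (Nat.ble t4l16.K 70 && Nat.ble (topK [t4l17, t4l18, t4l19]) t4l16.K && fixLetters t4h_P (topK [t4l17, t4l18, t4l19]) (t4l16.Pt 0)) = true := by decide +kernel
theorem t4_f15 : (Nat.ble t4l15.K 70 && Nat.ble (topK [t4l16, t4l17, t4l18, t4l19]) t4l15.K && fixLetters t4h_P (topK [t4l16, t4l17, t4l18, t4l19]) (t4l15.Pt 0)) = true := by decide +kernel
theorem t4_f14 : (Nat.ble t4l14.K 70 && Nat.ble (topK [t4l15, t4l16, t4l17, t4l18, t4l19]) t4l14.K && fixLetters t4h_P (topK [t4l15, t4l16, t4l17, t4l18, t4l19]) (t4l14.Pt 0)) = true := by decide +kernel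
theorem t4_f13 : (Nat.ble t4l13.K 70 && Nat.ble (topK [t4l14, t4l15, t4l16, t4l17, t4l18, t4l19]) t4l13.K && fixLetters t4h_P (topK [t4l14, t4l15, t4l16, t4l17, t4l18, t4l19]) (t4l13.Pt 0)) = true := by decide +kernel
theorem t4_f12 : (Nat.ble t4l12.K 70 && Nat.ble (topK [t4l13, t4l14, t4l15, t4l16, t4l17, t4l18, t4l19]) t4l12.K && fixLetters t4h_P (topK [t4l13, t4l14, t4l15, t4l16, t4l17, t4l18, t4l19]) (t4l12.Pt 0)) = true := by decide +kernel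
theorem t4_f11 : (Nat.ble t4l11.K 70 && Nat.ble (topK [t4l12, t4l13, t4l14, t4l15, t4l16, t4l17, t4l18, t4l19]) t4l11.K && fixLetters t4h_P (topK [t4l12, t4l13, t4l14, t4l15, t4l16, t4l17, t4l18, t4l19]) (t4l11.Pt 0)) = true := by decide +kernel
theorem t4_f10 : (Nat.ble t4l10.K 70 && Nat.ble (topK [t4l11, t4l12, t4l13, t4l14, t4l15, t4l16, t4l17, t4l18, t4l19]) t4l10.K && fixLetters t4h_P (topK [t4l11, t4l12, t4l13, t4l14, t4l15, t4l16, t4l17, t4l18, t4l19]) (t4l10.Pt 0)) = true := by decide +kernel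
theorem t4_f9 : (Nat.ble t4l9.K 70 && Nat.ble (topK [t4l10, t4l11, t4l12, t4l13, t4l14, t4l15, t4l16, t4l17, t4l18, t4l19]) t4l9.K && fixLetters t4h_P (topK [t4l10, t4l11, t4l12, t4l13, t4l14, t4l15, t4l16, t4l17, t4l18, t4l19]) (t4l9.Pt 0)) = true := by decide +kernel
theorem t4_f8 : (Nat.ble t4l8.K 70 && Nat.ble (topK [t4l9, t4l10, t4l11, t4l12, t4l13, t4l14, t4l15, t4l16, t4l17, t4l18, t4l19]) t4l8.K && fixLetters t4h_P (topK [t4l9, t4l10, t4l11, t4l12, t4l13, t4l14, t4l15, t4l16, t4l17, t4l18, t4l19]) (t4l8.Pt 0)) = true := by decide +kernel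
theorem t4_f7 : (Nat.ble t4l7.K 70 && Nat.ble (topK [t4l8, t4l9, t4l10, t4l11, t4l12, t4l13, t4l14, t4l15, t4l16, t4l17, t4l18, t4l19]) t4l7.K && fixLetters t4h_P (topK [t4l8, t4l9, t4l10, t4l11, t4l12, t4l13, t4l14, t4l15, t4l16, t4l17, t4l18, t4l19]) (t4l7.Pt 0)) = true := by decide +kernel
theorem t4_f6 : (Nat.ble t4l6.K 70 && Nat.ble (topK [t4l7, t4l8, t4l9, t4l10, t4l11, t4l12, t4l13, t4l14, t4l15, t4l16, t4l17, t4l18, t4l19]) t4l6.K && fixLetters t4h_P (topK [t4l7, t4l8, t4l9, t4l10, t4l11, t4l12, t4l13, t4l14, t4l15, t4l16, t4l17, t4l18, t4l19]) (t4l6.Pt 0)) = true := by decide +kernel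
theorem t4_f5 : (Nat.ble t4l5.K 70 && Nat.ble (topK [t4l6, t4l7, t4l8, t4l9, t4l10, t4l11, t4l12, t4l13, t4l14, t4l15, t4l16, t4l17, t4l18, t4l19]) t4l5.K && fixLetters t4h_P (topK [t4l6, t4l7, t4l8, t4l9, t4l10, t4l11, t4l12, t4l13, t4l14, t4l15, t4l16, t4l17, t4l18, t4l19]) (t4l5.Pt 0)) = true := by decide +kernel
theorem t4_f4 : (Nat.ble t4l4.K 70 && Nat.ble (topK [t4l5, t4l6, t4l7, t4l8, t4l9, t4l10, t4l11, t4l12, t4l13, t4l14, t4l15, t4l16, t4l17, t4l18, t4l19]) t4l4.K && fixLetters t4h_P (topK [t4l5, t4l6, t4l7, t4l8, t4l9, t4l10, t4l11, t4l12, t4l13, t4l14, t4l15, t4l16, t4l17, t4l18, t4l19]) (t4l4.Pt 0)) = true := by decide +kernel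
theorem t4_f3 : (Nat.ble t4l3.K 70 && Nat.ble (topK [t4l4, t4l5, t4l6, t4l7, t4l8, t4l9, t4l10, t4l11, t4l12, t4l13, t4l14, t4l15, t4l16, t4l17, t4l18, t4l19]) t4l3.K && fixLetters t4h_P (topK [t4l4, t4l5, t4l6, t4l7, t4l8, t4l9, t4l10, t4l11, t4l12, t4l13, t4l14, t4l15, t4l16, t4l17, t4l18, t4l19]) (t4l3.Pt 0)) = true := by decide +kernel
theorem t4_f2 : (Nat.ble t4l2.K 70 && Nat.ble (topK [t4l3, t4l4, t4l5, t4l6, t4l7, t4l8, t4l9, t4l10, t4l11, t4l12, t4l13, t4l14, t4l15, t4l16, t4l17, t4l18, t4l19]) t4l2.K && fixLetters t4h_P (topK [t4l3, t4l4, t4l5, t4l6, t4l7, t4l8, t4l9, t4l10, t4l11, t4l12, t4l13, t4l14, t4l15, t4l16, t4l17, t4l18, t4l19]) (t4l2.Pt 0)) = true := by decide +kernel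
theorem t4_f1 : (Nat.ble t4l1.K 70 && Nat.ble (topK [t4l2, t4l3, t4l4, t4l5, t4l6, t4l7, t4l8, t4l9, t4l10, t4l11, t4l12, t4l13, t4l14, t4l15, t4l16, t4l17, t4l18, t4l19]) t4l1.K && fixLetters t4h_P (topK [t4l2, t4l3, t4l4, t4l5, t4l6, t4l7, t4l8, t4l9, t4l10, t4l11, t4l12, t4l13, t4l14, t4l15, t4l16, t4l17, t4l18, t4l19]) (t4l1.Pt 0)) = true := by decide +kernel
theorem t4_f0 : (Nat.ble t4l0.K 70 && Nat.ble (topK [t4l1, t4l2, t4l3, t4l4, t4l5, t4l6, t4l7, t4l8, t4l9, t4l10, t4l11, t4l12, t4l13, t4l14, t4l15, t4l16, t4l17, t4l18, t4l19]) t4l0.K && fixLetters t4h_P (topK [t4l1, t4l2, t4l3, t4l4, t4l5, t4l6, t4l7, t4l8, t4l9, t4l10, t4l11, t4l12, t4l13, t4l14, t4l15, t4l16, t4l17, t4l18, t4l19]) (t4l0.Pt 0)) = true := by decide +kernel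
theorem t4_c : chainCard [t4l0, t4l1, t4l2, t4l3, t4l4, t4l5, t4l6, t4l7, t4l8, t4l9, t4l10, t4l11, t4l12, t4l13, t4l14, t4l15, t4l16, t4l17, t4l18, t4l19] = 9643575969054720 := by decide +kernel
theorem c4e_lt : allL (ltAll 53) c4e_W = true := by decide +kernel
theorem c4c19_e_0 : allZ (dent c4c19 c4e_P (nat_lit 1782)) (nat_lit 0) (nat_lit 1) = true := by decide +kernel
theorem c4c19_h : 0 < c4c19.n ∧ 0 < c4c19.K ∧ c4c19.Pt 0 < 1782 ∧ c4c19.Q (c4c19.Pt 0) = 0 := by decide +kernel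
theorem t4n0_0 : (Nat.ble t4l19.K 70 && Nat.beq (ltAll 1782 [t4l18.Pt 0, t4l17.Pt 0, t4l16.Pt 0, t4l15.Pt 0, t4l14.Pt 0, t4l13.Pt 0, t4l12.Pt 0, t4l11.Pt 0, t4l10.Pt 0, t4l9.Pt 0, t4l8.Pt 0, t4l7.Pt 0, t4l6.Pt 0, t4l5.Pt 0, t4l4.Pt 0, t4l3.Pt 0, t4l2.Pt 0, t4l1.Pt 0, t4l0.Pt 0]) 0 && kChk c4e_P (rl [nat_lit 49, nat_lit 50, nat_lit 11] H18.TE.M.P) t4n0.Kn 3 H18.TE.M.B [t4l18.Pt 0, t4l17.Pt 0, t4l16.Pt 0, t4l15.Pt 0, t4l14.Pt 0, t4l13.Pt 0, t4l12.Pt 0, t4l11.Pt 0, t4l10.Pt 0, t4l9.Pt 0, t4l8.Pt 0, t4l7.Pt 0, t4l6.Pt 0, t4l5.Pt 0, t4l4.Pt 0, t4l3.Pt 0, t4l2.Pt 0, t4l1.Pt 0, t4l0.Pt 0] && allL (ltAll 3) t4n0.pre && planOK t4h_P (rl [nat_lit 49, nat_lit 50, nat_lit 11] H18.TE.M.P) 3 (t4l19.Pt 0) t4n0.plan [t4l19]) = true := by decide +kernel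
theorem t4n0_1_0 : allZ (t4n0.ent H18.TE.M.P t4h_P (rl [nat_lit 49, nat_lit 50, nat_lit 11] H18.TE.M.P) (rl [nat_lit 49, nat_lit 50, nat_lit 11] H18.TE.M.P) c4e_P (nat_lit 53) (nat_lit 3) H18.TE.M.B t4l19 [] (memO c4c19)) (nat_lit 0) (nat_lit 2) = true := by decide +kernel
theorem c4_f19 : (Nat.ble c4c19.K 3 && Nat.ble (topK []) c4c19.K && Nat.beq (c4c19.Pt 0) (t4l19.Pt 0) && Nat.beq (ltAll 1782 [t4l18.Pt 0, t4l17.Pt 0, t4l16.Pt 0, t4l15.Pt 0, t4l14.Pt 0, t4l13.Pt 0, t4l12.Pt 0, t4l11.Pt 0, t4l10.Pt 0, t4l9.Pt 0, t4l8.Pt 0, t4l7.Pt 0, t4l6.Pt 0, t4l5.Pt 0, t4l4.Pt 0, t4l3.Pt 0, t4l2.Pt 0, t4l1.Pt 0, t4l0.Pt 0]) 0 && kChk c4e_P (rl [nat_lit 49, nat_lit 50, nat_lit 11] H18.TE.M.P) c4c19.K 3 H18.TE.M.B [t4l18.Pt 0, t4l17.Pt 0, t4l16.Pt 0, t4l15.Pt 0, t4l14.Pt 0, t4l13.Pt 0, t4l12.Pt 0, t4l11.Pt 0, t4l10.Pt 0, t4l9.Pt 0, t4l8.Pt 0, t4l7.Pt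 0, t4l6.Pt 0, t4l5.Pt 0, t4l4.Pt 0, t4l3.Pt 0, t4l2.Pt 0, t4l1.Pt 0, t4l0.Pt 0]) = true := by decide +kernel
theorem c4c18_e_0 : allZ (dent c4c18 c4e_P (nat_lit 1782)) (nat_lit 0) (nat_lit 1) = true := by decide +kernel
theorem c4c18_h : 0 < c4c18.n ∧ 0 < c4c18.K ∧ c4c18.Pt 0 < 1782 ∧ c4c18.Q (c4c18.Pt 0) = 0 := by decide +kernel
theorem t4n1_0 : (Nat.ble t4l18.K 70 && Nat.beq (ltAll 1782 [t4l17.Pt 0, t4l16.Pt 0, t4l15.Pt 0, t4l14.Pt 0, t4l13.Pt 0, t4l12.Pt 0, t4l11.Pt 0, t4l10.Pt 0, t4l9.Pt 0, t4l8.Pt 0, t4l7.Pt 0, t4l6.Pt 0, t4l5.Pt 0, t4l4.Pt 0, t4l3.Pt 0, t4l2.Pt 0, t4l1.Pt 0, t4l0.Pt 0]) 0 && kChk c4e_P (rl [nat_lit 49, nat_lit 50, nat_lit 11] H18.TE.M.P) t4n1.Kn 3 H18.TE.M.B [t4l17.Pt 0, t4l16.Pt 0, t4l15.Pt 0, t4l14.Pt 0, t4l13.Pt 0, t4l12.Pt 0, t4l11.Pt 0, t4l10.Pt 0, t4l9.Pt 0, t4l8.Pt 0, t4l7.Pt 0, t4l6.Pt 0, t4l5.Pt 0,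 t4l4.Pt 0, t4l3.Pt 0, t4l2.Pt 0, t4l1.Pt 0, t4l0.Pt 0] && allL (ltAll 3) t4n1.pre && planOK t4h_P (rl [nat_lit 49, nat_lit 50, nat_lit 11] H18.TE.M.P) 3 (t4l18.Pt 0) t4n1.plan [t4l18, t4l19]) = true := by decide +kernel
theorem t4n1_1_0 : allZ (t4n1.ent H18.TE.M.P t4h_P (rl [nat_lit 49, nat_lit 50, nat_lit 11] H18.TE.M.P) (rl [nat_lit 49, nat_lit 50, nat_lit 11] H18.TE.M.P) c4e_P (nat_lit 53) (nat_lit 3) H18.TE.M.B t4l18 [t4l19] (memO c4c18)) (nat_lit 0) (nat_lit 2) = true := by decide +kernel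
theorem c4_f18 : (Nat.ble c4c18.K 3 && Nat.ble (topK [c4c19]) c4c18.K && Nat.beq (c4c18.Pt 0) (t4l18.Pt 0) && Nat.beq (ltAll 1782 [t4l17.Pt 0, t4l16.Pt 0, t4l15.Pt 0, t4l14.Pt 0, t4l13.Pt 0, t4l12.Pt 0, t4l11.Pt 0, t4l10.Pt 0, t4l9.Pt 0, t4l8.Pt 0, t4l7.Pt 0, t4l6.Pt 0, t4l5.Pt 0, t4l4.Pt 0, t4l3.Pt 0, t4l2.Pt 0, t4l1.Pt 0, t4l0.Pt 0]) 0 && kChk c4e_P (rl [nat_lit 49, nat_lit 50, nat_lit 11] H18.TE.M.P) c4c18.K 3 H18.TE.M.B [t4l17.Pt 0, t4l16.Pt 0, t4l15.Pt 0, t4l14.Pt 0, t4l13.Pt 0, t4l12.Pt 0, t4l11.Pt 0, t4l10.Pt 0, t4l9.Pt 0, t4l8.Pt 0, t4l7.Pt 0, t4l6.Pt 0, t4l5.Pt 0, t4l4.Pt 0, t4l3.Pt 0, t4l2.Pt 0, t4l1.Pt 0, t4l0.Pt 0]) = true := by decide +kernel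
theorem c4_f17 : (Nat.ble t4l17.K 70 && Nat.blt (nat_lit 41) 1782 && fixLetters t4h_P t4l17.K (nat_lit 41) && Nat.beq (ltAll 3 [nat_lit 1, nat_lit 1, nat_lit 1, nat_lit 0]) 0 && Nat.beq (apW (rl [nat_lit 49, nat_lit 50, nat_lit 11] H18.TE.M.P) [nat_lit 1, nat_lit 1, nat_lit 1, nat_lit 0] (nat_lit 41)) (t4l17.Pt 0)) = true := by decide +kernel
theorem c4_f16 : (Nat.ble t4l16.K 70 && Nat.blt (nat_lit 41) 1782 && fixLetters t4h_P t4l16.K (nat_lit 41) && Nat.beq (ltAll 3 [nat_lit 1, nat_lit 1, nat_lit 0, nat_lit 1]) 0 && Nat.beq (apW (rl [nat_lit 49, nat_lit 50, nat_lit 11] H18.TE.M.P) [nat_lit 1, nat_lit 1, nat_lit 0, nat_lit 1] (nat_lit 41)) (t4l16.Pt 0)) = true := by decide +kernel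
theorem c4_f15 : (Nat.ble t4l15.K 70 && Nat.blt (nat_lit 41) 1782 && fixLetters t4h_P t4l15.K (nat_lit 41) && Nat.beq (ltAll 3 [nat_lit 0, nat_lit 0, nat_lit 0, nat_lit 0]) 0 && Nat.beq (apW (rl [nat_lit 49, nat_lit 50, nat_lit 11] H18.TE.M.P) [nat_lit 0, nat_lit 0, nat_lit 0, nat_lit 0] (nat_lit 41)) (t4l15.Pt 0)) = true := by decide +kernel
theorem c4_f14 : (Nat.ble t4l14.K 70 && Nat.blt (nat_lit 41) 1782 && fixLetters t4h_P t4l14.K (nat_lit 41) && Nat.beq (ltAll 3 [nat_lit 1, nat_lit 1, nat_lit 0]) 0 && Nat.beq (apW (rl [nat_lit 49, nat_lit 50, nat_lit 11] H18.TE.M.P) [nat_lit 1, nat_lit 1, nat_lit 0] (nat_lit 41)) (t4l14.Pt 0)) = true := by decide +kernel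
theorem c4_f13 : (Nat.ble t4l13.K 70 && Nat.blt (nat_lit 41) 1782 && fixLetters t4h_P t4l13.K (nat_lit 41) && Nat.beq (ltAll 3 [nat_lit 1, nat_lit 0, nat_lit 0]) 0 && Nat.beq (apW (rl [nat_lit 49, nat_lit 50, nat_lit 11] H18.TE.M.P) [nat_lit 1, nat_lit 0, nat_lit 0] (nat_lit 41)) (t4l13.Pt 0)) = true := by decide +kernel
theorem c4_f12 : (Nat.ble t4l12.K 70 && Nat.blt (nat_lit 41) 1782 && fixLetters t4h_P t4l12.K (nat_lit 41) && Nat.beq (ltAll 3 [nat_lit 1, nat_lit 1, nat_lit 1]) 0 && Nat.beq (apW (rl [nat_lit 49, nat_lit 50, nat_lit 11] H18.TE.M.P) [nat_lit 1, nat_lit 1, nat_lit 1] (nat_lit 41)) (t4l12.Pt 0)) = true := by decide +kernel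
theorem c4_f11 : (Nat.ble t4l11.K 70 && Nat.blt (nat_lit 41) 1782 && fixLetters t4h_P t4l11.K (nat_lit 41) && Nat.beq (ltAll 3 [nat_lit 1, nat_lit 0, nat_lit 1]) 0 && Nat.beq (apW (rl [nat_lit 49, nat_lit 50, nat_lit 11] H18.TE.M.P) [nat_lit 1, nat_lit 0, nat_lit 1] (nat_lit 41)) (t4l11.Pt 0)) = true := by decide +kernel
theorem c4_f10 : (Nat.ble t4l10.K 70 && Nat.blt (nat_lit 41) 1782 && fixLetters t4h_P t4l10.K (nat_lit 41) && Nat.beq (ltAll 3 [nat_lit 0, nat_lit 1, nat_lit 0]) 0 && Nat.beq (apW (rl [nat_lit 49, nat_lit 50, nat_lit 11] H18.TE.M.P) [nat_lit 0, nat_lit 1, nat_lit 0] (nat_lit 41)) (t4l10.Pt 0)) = true := by decide +kernel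
theorem c4_f9 : (Nat.ble t4l9.K 70 && Nat.blt (nat_lit 41) 1782 && fixLetters t4h_P t4l9.K (nat_lit 41) && Nat.beq (ltAll 3 [nat_lit 0, nat_lit 1, nat_lit 1]) 0 && Nat.beq (apW (rl [nat_lit 49, nat_lit 50, nat_lit 11] H18.TE.M.P) [nat_lit 0, nat_lit 1, nat_lit 1] (nat_lit 41)) (t4l9.Pt 0)) = true := by decide +kernel
theorem c4_f8 : (Nat.ble t4l8.K 70 && Nat.blt (nat_lit 41) 1782 && fixLetters t4h_P t4l8.K (nat_lit 41) && Nat.beq (ltAll 3 [nat_lit 0, nat_lit 0, nat_lit 1]) 0 && Nat.beq (apW (rl [nat_lit 49, nat_lit 50, nat_lit 11] H18.TE.M.P) [nat_lit 0, nat_lit 0, nat_lit 1] (nat_lit 41)) (t4l8.Pt 0)) = true := by decide +kernel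
theorem c4_f7 : (Nat.ble t4l7.K 70 && Nat.blt (nat_lit 41) 1782 && fixLetters t4h_P t4l7.K (nat_lit 41) && Nat.beq (ltAll 3 [nat_lit 1, nat_lit 0]) 0 && Nat.beq (apW (rl [nat_lit 49, nat_lit 50, nat_lit 11] H18.TE.M.P) [nat_lit 1, nat_lit 0] (nat_lit 41)) (t4l7.Pt 0)) = true := by decide +kernel
theorem c4_f6 : (Nat.ble t4l6.K 70 && Nat.blt (nat_lit 41) 1782 && fixLetters t4h_P t4l6.K (nat_lit 41) && Nat.beq (ltAll 3 [nat_lit 1, nat_lit 1]) 0 && Nat.beq (apW (rl [nat_lit 49, nat_lit 50, nat_lit 11] H18.TE.M.P) [nat_lit 1, nat_lit 1] (nat_lit 41)) (t4l6.Pt 0)) = true := by decide +kernel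
theorem c4_f5 : (Nat.ble t4l5.K 70 && Nat.blt (nat_lit 41) 1782 && fixLetters t4h_P t4l5.K (nat_lit 41) && Nat.beq (ltAll 3 [nat_lit 1]) 0 && Nat.beq (apW (rl [nat_lit 49, nat_lit 50, nat_lit 11] H18.TE.M.P) [nat_lit 1] (nat_lit 41)) (t4l5.Pt 0)) = true := by decide +kernel
theorem c4_f4 : (Nat.ble t4l4.K 70 && Nat.blt (nat_lit 41) 1782 && fixLetters t4h_P t4l4.K (nat_lit 41) && Nat.beq (ltAll 3 [nat_lit 0, nat_lit 1]) 0 && Nat.beq (apW (rl [nat_lit 49, nat_lit 50, nat_lit 11] H18.TE.M.P) [nat_lit 0, nat_lit 1] (nat_lit 41)) (t4l4.Pt 0)) = true := by decide +kernel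
theorem c4_f3 : (Nat.ble t4l3.K 70 && Nat.blt (nat_lit 41) 1782 && fixLetters t4h_P t4l3.K (nat_lit 41) && Nat.beq (ltAll 3 [nat_lit 0, nat_lit 0, nat_lit 0]) 0 && Nat.beq (apW (rl [nat_lit 49, nat_lit 50, nat_lit 11] H18.TE.M.P) [nat_lit 0, nat_lit 0, nat_lit 0] (nat_lit 41)) (t4l3.Pt 0)) = true := by decide +kernel
theorem c4_f2 : (Nat.ble t4l2.K 70 && Nat.blt (nat_lit 41) 1782 && fixLetters t4h_P t4l2.K (nat_lit 41) && Nat.beq (ltAll 3 [nat_lit 0, nat_lit 0]) 0 && Nat.beq (apW (rl [nat_lit 49, nat_lit 50, nat_lit 11] H18.TE.M.P) [nat_lit 0, nat_lit 0] (nat_lit 41)) (t4l2.Pt 0)) = true := by decide +kernel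
theorem c4_f1 : (Nat.ble t4l1.K 70 && Nat.blt (nat_lit 41) 1782 && fixLetters t4h_P t4l1.K (nat_lit 41) && Nat.beq (ltAll 3 [nat_lit 0]) 0 && Nat.beq (apW (rl [nat_lit 49, nat_lit 50, nat_lit 11] H18.TE.M.P) [nat_lit 0] (nat_lit 41)) (t4l1.Pt 0)) = true := by decide +kernel
theorem c4c0_e_0 : allZ (dent c4c0 c4e_P (nat_lit 1782)) (nat_lit 0) (nat_lit 1) = true := by decide +kernel
theorem c4c0_h : 0 < c4c0.n ∧ 0 < c4c0.K ∧ c4c0.Pt 0 < 1782 ∧ c4c0.Q (c4c0.Pt 0) = 0 := by decide +kernel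
theorem t4n2_0 : (Nat.ble t4l0.K 70 && Nat.beq (ltAll 1782 []) 0 && kChk c4e_P (rl [nat_lit 49, nat_lit 50, nat_lit 11] H18.TE.M.P) t4n2.Kn 3 H18.TE.M.B [] && allL (ltAll 3) t4n2.pre && planOK t4h_P (rl [nat_lit 49, nat_lit 50, nat_lit 11] H18.TE.M.P) 3 (t4l0.Pt 0) t4n2.plan [t4l0, t4l1, t4l2, t4l3, t4l4, t4l5, t4l6, t4l7, t4l8, t4l9, t4l10, t4l11, t4l12, t4l13, t4l14, t4l15, t4l16, t4l17, t4l18, t4l19]) = true := by decide +kernel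

end H18.TE.M
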